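import Cfsg.Agent.H35.Semi.RootCent
import Cfsg.Agent.H26.LThree.Local

/-!
# The shapes of the root configuration of S0484

`r = g w` permutes `t → u → t u`.  With the index of the involution centraliser the triangle
(`X` commutes with `r X r⁻¹`) and the empty configuration (no root group of `u` or `t u` commutes
with `X`) are impossible; what remains is that `X` commutes with `r X' r⁻¹` or with `r⁻¹ X' r`.
-/

set_option autoImplicit false
set_option linter.unusedSectionVars false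
set_option linter.unusedSimpArgs false
set_option linter.style.haveILetI false
set_option linter.unusedVariables false

namespace Cfsg.Agent.H35.Semi

open Subgroup

universe u v

namespace Setting

variable {G : Type u} [Group G] [Finite G] {F : Type v} [Field F] [Finite F] {t : G}
variable (S : Setting G F t)
include S

/-- The element permuting the three involutions. -/
noncomputable def r : G := S.g * S.ι swap

/-- The image of `R` under conjugation by `h` centralises the root group. -/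
def Comm (h : G) (R : Subgroup G) : Prop := ∀ x ∈ R, h * x * h⁻¹ ∈ centralizer (S.X : Set G)

theorem swap_inv' : (S.ι swap)⁻¹ = S.ι swap := inv_eq_of_mul_eq_one_right S.swap_mul_swap

theorem t_inv : t⁻¹ = t := inv_eq_of_mul_eq_one_right S.mul_self

theorem r_t : S.r * t * S.r⁻¹ = S.u := by
  rw [r, show S.g * S.ι swap * t * (S.g * S.ι swap)⁻¹
      = S.g * (S.ι swap * t * (S.ι swap)⁻¹) * S.g⁻¹ by group, S.swap_commute.eq,
    mul_inv_cancel_right, S.g_t]

theorem r_u : S.r * S.u * S.r⁻¹ = t * S.u := by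
  rw [r, show S.g * S.ι swap * S.u * (S.g * S.ι swap)⁻¹
      = S.g * (S.ι swap * S.u * (S.ι swap)⁻¹) * S.g⁻¹ by group, S.swap_conj_u, S.g_tu]

theorem r_tu : S.r * (t * S.u) * S.r⁻¹ = t := by
  rw [show S.r * (t * S.u) * S.r⁻¹ = (S.r * t * S.r⁻¹) * (S.r * S.u * S.r⁻¹) by group, S.r_t,
    S.r_u, ← mul_assoc, S.commute_u_t.eq, mul_assoc, S.u_mul_self, mul_one]

theorem rinv_t : S.r⁻¹ * t * S.r = t * S.u := by
  have h : S.r⁻¹ * (S.r * (t * S.u) * S.r⁻¹) * S.r = t * S.u := by group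
  rwa [S.r_tu] at h

theorem rinv_u : S.r⁻¹ * S.u * S.r = t := by
  have h : S.r⁻¹ * (S.r * t * S.r⁻¹) * S.r = t := by group
  rwa [S.r_t] at h

theorem r_conj_D {d : G} : S.r * d * S.r⁻¹ ∈ S.D ↔ d ∈ S.D := by
  rw [r, show S.g * S.ι swap * d * (S.g * S.ι swap)⁻¹
      = S.g * (S.ι swap * d * (S.ι swap)⁻¹) * S.g⁻¹ by group, S.g_conj_D]
  refine ⟨fun h => ?_, S.swap_conj_D⟩
  have h' := S.swap_conj_D h
  rwa [S.swap_inv', show S.ι swap * (S.ι swap * d * S.ι swap) * S.ι swap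
      = (S.ι swap * S.ι swap) * d * (S.ι swap * S.ι swap) by group, S.swap_mul_swap, one_mul,
    mul_one] at h'

theorem rinv_conj_D {d : G} : S.r⁻¹ * d * S.r⁻¹⁻¹ ∈ S.D ↔ d ∈ S.D := by
  rw [← S.r_conj_D, show S.r * (S.r⁻¹ * d * S.r⁻¹⁻¹) * S.r⁻¹ = d by group]

theorem comm_symm {h : G} (hc : S.Comm h S.X) : S.Comm h⁻¹ S.X := by
  intro x hx y hy
  have h1 : Commute x (h * y * h⁻¹) := hc y hy x hx
  have h2 := h1.map (MulAut.conj h⁻¹)
  simp only [MulAut.conj_apply, inv_inv] at h2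
  rw [show h⁻¹ * (h * y * h⁻¹) * h = y by group] at h2
  rw [inv_inv]
  exact h2.symm.eq

/-- `X` does not commute with both root groups of an involution inverting it. -/
theorem not_both {h : G} (hinv : ∀ x ∈ S.X, h * t * h⁻¹ * x * (h * t * h⁻¹)⁻¹ = x⁻¹)
    (h1 : S.Comm h S.X) (h2 : S.Comm h S.X') : False := by
  set M := centralizer (S.X : Set G)
  have ha : h * S.ι (xp 1) * h⁻¹ ∈ M := h1 _ (S.mem_X.2 ⟨1, rfl⟩)
  have hb : h * S.ι (xm (-1)) * h⁻¹ ∈ M := h2 _ (S.mem_X'.2 ⟨-1, rfl⟩)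
  have hM : h * t * h⁻¹ ∈ M := by
    rw [show h * t * h⁻¹ = h * S.ι (xp (1 : F) * xm (-1) * xp 1 * (xp (1 : F) * xm (-1) * xp 1))
      * h⁻¹ by rw [xp_xm_xp, S.ι_neg]]
    simp only [map_mul]
    convert mul_mem (mul_mem (mul_mem ha hb) ha) (mul_mem (mul_mem ha hb) ha) using 1
    group
  have hx : S.ι (xp 1) ∈ S.X := S.mem_X.2 ⟨1, rfl⟩
  have h3 := hinv _ hx
  rw [← hM _ hx, mul_inv_cancel_right] at h3
  have h4 := S.eq_one_of_sq hx (by nth_rw 2 [h3]; rw [mul_inv_cancel])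
  rw [← map_one S.ι, ← xp_zero] at h4
  exact one_ne_zero (S.ι_xp_injective h4)

theorem not_both_r (h1 : S.Comm S.r S.X) : ¬ S.Comm S.r S.X' := fun h2 =>
  S.not_both (fun x hx => by rw [S.r_t]; exact S.u_inv_X hx) h1 h2

theorem not_both_rinv (h1 : S.Comm S.r⁻¹ S.X) : ¬ S.Comm S.r⁻¹ S.X' := fun h2 =>
  S.not_both (fun x hx => by rw [inv_inv, S.rinv_t]; exact S.tu_inv_X hx) h1 h2

/-! ### The characteristic -/

theorem exists_prime : ∃ p e : ℕ, p.Prime ∧ p ≠ 2 ∧ 0 < e ∧ Nat.card F = p ^ e := by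
  haveI := Fintype.ofFinite F
  obtain ⟨p, hp⟩ := CharP.exists F
  obtain ⟨n, hprime, hn⟩ := FiniteField.card F p
  refine ⟨p, n, hprime, ?_, n.pos, by rw [Nat.card_eq_fintype_card, hn]⟩
  rintro rfl
  have := S.odd
  rw [Nat.card_eq_fintype_card, hn, Nat.odd_pow_iff n.pos.ne'] at this
  exact absurd this (by decide)

theorem coprime_pred {p e : ℕ} (hp : p.Prime) (he : 0 < e) (hq : Nat.card F = p ^ e) :
    ¬ p ∣ (Nat.card F + 1) * Nat.card S.D := by
  intro h
  have hpq : p ∣ Nat.card F := hq ▸ dvd_pow_self p he.ne'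
  rcases (Nat.Prime.dvd_mul hp).1 h with h1 | h1
  · exact hp.one_lt.ne' (Nat.dvd_one.1 ((Nat.dvd_add_right hpq).1 h1))
  · have h2 : p ∣ (Nat.card F - 1) * (Nat.card F - 1) :=
      S.card_D_mul ▸ dvd_mul_of_dvd_left h1 _
    have h3 : p ∣ Nat.card F - 1 := ((Nat.Prime.dvd_mul hp).1 h2).elim id id
    have h4 : Nat.card F = Nat.card F - 1 + 1 := (Nat.sub_add_cancel Nat.card_pos).symm
    rw [h4] at hpq
    exact hp.one_lt.ne' (Nat.dvd_one.1 ((Nat.dvd_add_right h3).1 hpq))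

theorem card_G : Nat.card G =
    Nat.card F * (Nat.card F + 1) * Nat.card S.D * (centralizer ({t} : Set G)).index := by
  rw [← S.card_centralizer, card_mul_index]

/-! ### The empty configuration -/

/-- If no root group of `u` or `t u` commutes with `X` then `p` does not divide the index. -/
theorem empty_false (hc : Nat.card F ∣ (centralizer ({t} : Set G)).index)
    (h1 : ¬ S.Comm S.r S.X) (h2 : ¬ S.Comm S.r S.X') (h3 : ¬ S.Comm S.r⁻¹ S.X)
    (h4 : ¬ S.Comm S.r⁻¹ S.X') : False := by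
  obtain ⟨p, e, hp, -, he, hq⟩ := S.exists_prime
  have hone : S.ι (xp 1) ≠ 1 := fun h => by
    rw [← map_one S.ι, ← xp_zero] at h
    exact one_ne_zero (S.ι_xp_injective h)
  have hx1 : S.ι (xp 1) ∈ (S.X : Set G) := S.mem_X.2 ⟨1, rfl⟩
  have hcore : coreOf (centralizer (S.X : Set G)) ≤ S.Sc ⊔ S.X := by
    refine S.core_le (fun x hx => hx) (S.core_t (fun x hx => hx) hx1 hone) ?_ ?_
    · rcases S.core_cases S.r (fun d => S.r_conj_D) with h | h | h
      · rw [S.r_t] at h; exact h.trans le_sup_left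
      · exact absurd h h1
      · exact absurd h h2
    · rcases S.core_cases S.r⁻¹ (fun d => S.rinv_conj_D) with h | h | h
      · rw [inv_inv, S.rinv_t] at h; exact h.trans le_sup_left
      · exact absurd h h3
      · exact absurd h h4
  have hle : S.Sc ⊔ S.X ≤ centralizer ({t} : Set G) :=
    sup_le (fun z hz => mem_centralizer_singleton_iff.2 (S.commute_Sc hz).eq)
      (fun z hz => mem_centralizer_singleton_iff.2 (S.X_commute hz).eq)
  have hC : centralizer (S.X : Set G) ≤ centralizer ({t} : Set G) := by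
    intro m hm
    obtain ⟨o, ho, c, -, hct, rfl⟩ := S.exists_decomp (fun x hx => hx) hx1 hone hm
    exact mul_mem (hle (hcore ho)) (mem_centralizer_singleton_iff.2 hct.eq)
  have hN : normalizer (S.X : Set G) ≤ centralizer ({t} : Set G) := by
    intro n hn
    have hmem : n * t * n⁻¹ ∈ centralizer (S.X : Set G) := by
      intro x hx
      have hx' : n⁻¹ * x * n ∈ S.X := by
        have := (mem_normalizer_iff.1 (inv_mem hn) x).1 hx
        rwa [inv_inv] at this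
      have := (S.X_commute hx').map (MulAut.conj n)
      simp only [MulAut.conj_apply] at this
      rw [show n * (n⁻¹ * x * n) * n⁻¹ = x by group] at this
      exact this.eq
    have := S.eq_t_of_invol hx1 hone (mem_centralizer_singleton_iff.1 (hC hmem))
      (hmem _ hx1).symm
      (by rw [show n * t * n⁻¹ * (n * t * n⁻¹) = n * (t * t) * n⁻¹ by group, S.mul_self, mul_one,
        mul_inv_cancel])
      (fun e => S.ne_one (conj_eq_one_iff.1 e))
    exact mem_centralizer_singleton_iff.2 (mul_inv_eq_iff_eq_mul.1 this)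
  haveI := Fact.mk hp
  have hX : Nat.card S.X = p ^ e := S.card_X.trans hq
  have hdvd : p ^ (e + 1) ∣ Nat.card G := by
    obtain ⟨k, hk⟩ := hc
    rw [S.card_G, hk, hq, pow_succ]
    calc p ^ e * p ∣ p ^ e * p ^ e := mul_dvd_mul_left _ (dvd_pow_self p he.ne')
      _ ∣ _ := ⟨(p ^ e + 1) * Nat.card S.D * k, by ring⟩
  have h5 := (Sylow.prime_pow_dvd_card_normalizer hdvd hX).trans (card_dvd_of_le hN)
  rw [S.card_centralizer, hq, pow_succ, mul_assoc (p ^ e)] at h5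
  exact S.coprime_pred hp he hq (hq ▸ Nat.dvd_of_mul_dvd_mul_left (pow_pos hp.pos _) h5)

/-! ### The triangle -/

section Triangle

variable (hT : S.Comm S.r S.X)
include hT

theorem comm_X_Y {x y : G} (hx : x ∈ S.X) (hy : y ∈ S.X) :
    Commute x (S.r * y * S.r⁻¹) := hT y hy x hx

theorem comm_W_X {x y : G} (hx : x ∈ S.X) (hy : y ∈ S.X) :
    Commute x (S.r⁻¹ * y * S.r) := by
  have := S.comm_symm hT y hy x hx
  rwa [inv_inv] at this

theorem r3_D : S.r * S.r * S.r ∈ S.D := by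
  refine S.mem_D_iff.2 ⟨mul_inv_eq_iff_eq_mul.1 ?_, mul_inv_eq_iff_eq_mul.1 ?_⟩
  · rw [show S.r * S.r * S.r * t * (S.r * S.r * S.r)⁻¹
      = S.r * (S.r * (S.r * t * S.r⁻¹) * S.r⁻¹) * S.r⁻¹ by group, S.r_t, S.r_u, S.r_tu]
  · rw [show S.r * S.r * S.r * S.u * (S.r * S.r * S.r)⁻¹
      = S.r * (S.r * (S.r * S.u * S.r⁻¹) * S.r⁻¹) * S.r⁻¹ by group, S.r_u, S.r_tu, S.r_t]

theorem comm_Y_W {x y : G} (hx : x ∈ S.X) (hy : y ∈ S.X) :
    Commute (S.r * x * S.r⁻¹) (S.r⁻¹ * y * S.r) := by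
  set d := S.r * S.r * S.r with hd
  have hz : d⁻¹ * y * d ∈ S.X := by
    have := S.D_conj_X (inv_mem (S.r3_D hT)) hy
    rwa [inv_inv] at this
  have := (S.comm_X_Y hT hx hz).map (MulAut.conj S.r)
  simp only [MulAut.conj_apply] at this
  rwa [show S.r * (S.r * (d⁻¹ * y * d) * S.r⁻¹) * S.r⁻¹ = S.r⁻¹ * y * S.r by rw [hd]; group]
    at this

/-- The product of the three root groups. -/
noncomputable def triHom : S.X × S.X × S.X →* G where
  toFun a := (a.1 : G) * ((S.r * (a.2.1 : G) * S.r⁻¹) * (S.r⁻¹ * (a.2.2 : G) * S.r))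
  map_one' := by simp
  map_mul' a b := by
    obtain ⟨a1, a2, a3⟩ := a
    obtain ⟨b1, b2, b3⟩ := b
    simp only [Prod.mk_mul_mk, Subgroup.coe_mul]
    have h1 : Commute (S.r * (a2 : G) * S.r⁻¹ * (S.r⁻¹ * (a3 : G) * S.r)) (b1 : G) :=
      ((S.comm_X_Y hT b1.2 a2.2).mul_right (S.comm_W_X hT b1.2 a3.2)).symm
    rw [h1.mul_mul_mul_comm (a1 : G),
      (S.comm_Y_W hT b2.2 a3.2).symm.mul_mul_mul_comm (S.r * (a2 : G) * S.r⁻¹)]
    group

/-- The abelian group of order `q³`. -/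
noncomputable def E : Subgroup G := (S.triHom hT).range

theorem mem_E {g : G} (hg : g ∈ S.E hT) : ∃ a ∈ S.X, ∃ b ∈ S.X, ∃ c ∈ S.X,
    g = a * ((S.r * b * S.r⁻¹) * (S.r⁻¹ * c * S.r)) := by
  obtain ⟨⟨a, b, c⟩, rfl⟩ := hg
  exact ⟨a, a.2, b, b.2, c, c.2, rfl⟩

theorem mul_mem_E {a b c : G} (ha : a ∈ S.X) (hb : b ∈ S.X) (hc : c ∈ S.X) :
    a * ((S.r * b * S.r⁻¹) * (S.r⁻¹ * c * S.r)) ∈ S.E hT := ⟨(⟨a, ha⟩, ⟨b, hb⟩, ⟨c, hc⟩), rfl⟩

theorem t_conj_tri {a b c : G} (ha : a ∈ S.X) (hb : b ∈ S.X) (hc : c ∈ S.X) :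
    t * (a * ((S.r * b * S.r⁻¹) * (S.r⁻¹ * c * S.r))) * t⁻¹
      = a * ((S.r * b⁻¹ * S.r⁻¹) * (S.r⁻¹ * c⁻¹ * S.r)) := by
  rw [show t * (a * ((S.r * b * S.r⁻¹) * (S.r⁻¹ * c * S.r))) * t⁻¹
    = (t * a * t⁻¹) * ((S.r * ((S.r⁻¹ * t * S.r) * b * (S.r⁻¹ * t * S.r)⁻¹) * S.r⁻¹)
      * (S.r⁻¹ * ((S.r * t * S.r⁻¹) * c * (S.r * t * S.r⁻¹)⁻¹) * S.r)) by group,
    S.rinv_t, S.r_t, S.tu_inv_X hb, S.u_inv_X hc, (S.X_commute ha).symm.eq, mul_inv_cancel_right]

theorem u_conj_tri {a b c : G} (ha : a ∈ S.X) (hb : b ∈ S.X) (hc : c ∈ S.X) :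
    S.u * (a * ((S.r * b * S.r⁻¹) * (S.r⁻¹ * c * S.r))) * S.u⁻¹
      = a⁻¹ * ((S.r * b * S.r⁻¹) * (S.r⁻¹ * c⁻¹ * S.r)) := by
  rw [show S.u * (a * ((S.r * b * S.r⁻¹) * (S.r⁻¹ * c * S.r))) * S.u⁻¹
    = (S.u * a * S.u⁻¹) * ((S.r * ((S.r⁻¹ * S.u * S.r) * b * (S.r⁻¹ * S.u * S.r)⁻¹) * S.r⁻¹)
      * (S.r⁻¹ * ((S.r * S.u * S.r⁻¹) * c * (S.r * S.u * S.r⁻¹)⁻¹) * S.r)) by group,
    S.rinv_u, S.r_u, S.u_inv_X ha, (S.X_commute hb).symm.eq, mul_inv_cancel_right,
    S.tu_inv_X hc]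

theorem tri_sq_t {a b c : G} (ha : a ∈ S.X) (hb : b ∈ S.X) (hc : c ∈ S.X) :
    let e := a * ((S.r * b * S.r⁻¹) * (S.r⁻¹ * c * S.r))
    e * (t * e * t⁻¹) = a * a := by
  intro e
  rw [S.t_conj_tri hT ha hb hc]
  have h := (S.triHom hT).map_mul (⟨a, ha⟩, ⟨b, hb⟩, ⟨c, hc⟩) (⟨a, ha⟩, ⟨b, hb⟩⁻¹, ⟨c, hc⟩⁻¹)
  simp only [triHom, MonoidHom.coe_mk, OneHom.coe_mk, Prod.mk_mul_mk, mul_inv_cancel,
    Subgroup.coe_mul, Subgroup.coe_inv, Subgroup.coe_one] at h
  rw [← h]; group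

theorem tri_sq_u {a b c : G} (ha : a ∈ S.X) (hb : b ∈ S.X) (hc : c ∈ S.X) :
    let e := a * ((S.r * b * S.r⁻¹) * (S.r⁻¹ * c * S.r))
    e * (S.u * e * S.u⁻¹) = S.r * (b * b) * S.r⁻¹ := by
  intro e
  rw [S.u_conj_tri hT ha hb hc]
  have h := (S.triHom hT).map_mul (⟨a, ha⟩, ⟨b, hb⟩, ⟨c, hc⟩) (⟨a, ha⟩⁻¹, ⟨b, hb⟩, ⟨c, hc⟩⁻¹)
  simp only [triHom, MonoidHom.coe_mk, OneHom.coe_mk, Prod.mk_mul_mk, mul_inv_cancel,
    Subgroup.coe_mul, Subgroup.coe_inv, Subgroup.coe_one] at h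
  rw [← h]; group

theorem triHom_injective : Function.Injective (S.triHom hT) := by
  rw [injective_iff_map_eq_one]
  rintro ⟨⟨a, ha⟩, ⟨b, hb⟩, ⟨c, hc⟩⟩ h
  change a * ((S.r * b * S.r⁻¹) * (S.r⁻¹ * c * S.r)) = 1 at h
  have h1 := S.tri_sq_t hT ha hb hc
  have h2 := S.tri_sq_u hT ha hb hc
  simp only [h, mul_one, one_mul, mul_inv_cancel] at h1 h2
  obtain rfl := S.eq_one_of_sq ha h1.symm
  obtain rfl := S.eq_one_of_sq hb (conj_eq_one_iff.1 h2.symm)
  have hc1 : c = 1 := by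
    simp only [mul_one, mul_inv_cancel, one_mul] at h
    have := conj_eq_one_iff.1 (show S.r⁻¹ * c * S.r⁻¹⁻¹ = 1 by rw [inv_inv]; exact h)
    exact this
  subst hc1
  rfl

theorem card_E : Nat.card (S.E hT) = Nat.card F * (Nat.card F * Nat.card F) := by
  rw [E, Nat.card_congr (MonoidHom.ofInjective (S.triHom_injective hT)).toEquiv.symm,
    Nat.card_prod, Nat.card_prod, S.card_X]

theorem t_mem_normalizer_E : t ∈ normalizer ((S.E hT : Subgroup G) : Set G) := by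
  have key : ∀ g ∈ S.E hT, t * g * t⁻¹ ∈ S.E hT := by
    intro g hg
    obtain ⟨a, ha, b, hb, c, hc, rfl⟩ := S.mem_E hT hg
    rw [S.t_conj_tri hT ha hb hc]
    exact S.mul_mem_E hT ha (inv_mem hb) (inv_mem hc)
  refine mem_normalizer_iff.2 fun g => ⟨key g, fun h => ?_⟩
  have := key _ h
  rwa [S.t_inv, show t * (t * g * t) * t = (t * t) * g * (t * t) by group, S.mul_self, one_mul,
    mul_one] at this

theorem D_le_normalizer_E : S.D ≤ normalizer ((S.E hT : Subgroup G) : Set G) := by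
  have key : ∀ d ∈ S.D, ∀ g ∈ S.E hT, d * g * d⁻¹ ∈ S.E hT := by
    intro d hd g hg
    obtain ⟨a, ha, b, hb, c, hc, rfl⟩ := S.mem_E hT hg
    have hd1 : S.r⁻¹ * d * S.r ∈ S.D := by
      have := S.rinv_conj_D.2 hd
      rwa [inv_inv] at this
    rw [show d * (a * ((S.r * b * S.r⁻¹) * (S.r⁻¹ * c * S.r))) * d⁻¹
      = (d * a * d⁻¹) * ((S.r * ((S.r⁻¹ * d * S.r) * b * (S.r⁻¹ * d * S.r)⁻¹) * S.r⁻¹)
        * (S.r⁻¹ * ((S.r * d * S.r⁻¹) * c * (S.r * d * S.r⁻¹)⁻¹) * S.r)) by group]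
    exact S.mul_mem_E hT (S.D_conj_X hd ha) (S.D_conj_X hd1 hb)
      (S.D_conj_X (S.r_conj_D.2 hd) hc)
  intro d hd
  refine mem_normalizer_iff.2 fun g => ⟨key d hd g, fun h => ?_⟩
  have := key _ (inv_mem hd) _ h
  rwa [show d⁻¹ * (d * g * d⁻¹) * d⁻¹⁻¹ = g by group] at this

theorem r_mem_normalizer_E : S.r ∈ normalizer ((S.E hT : Subgroup G) : Set G) := by
  have key : ∀ g ∈ S.E hT, S.r * g * S.r⁻¹ ∈ S.E hT := by
    intro g hg
    obtain ⟨a, ha, b, hb, c, hc, rfl⟩ := S.mem_E hT hg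
    set d := S.r * S.r * S.r with hd
    have hb' : d * b * d⁻¹ ∈ S.X := S.D_conj_X (S.r3_D hT) hb
    have heq : S.r * (a * ((S.r * b * S.r⁻¹) * (S.r⁻¹ * c * S.r))) * S.r⁻¹
        = (S.r * a * S.r⁻¹) * ((S.r⁻¹ * (d * b * d⁻¹) * S.r) * c) := by
      rw [hd]; group
    rw [heq]
    refine mul_mem ?_ (mul_mem ?_ ?_)
    · have := S.mul_mem_E hT (one_mem _) ha (one_mem _)
      simpa using this
    · have := S.mul_mem_E hT (one_mem _) (one_mem _) hb'
      simpa using this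
    · have := S.mul_mem_E hT hc (one_mem _) (one_mem _)
      simpa using this
  exact Subgroup.mem_normalizer_fintype (fun g hg => key g hg)

/-- `E` meets its conjugate by the swap trivially. -/
theorem inter_swap {e : G} (he : e ∈ S.E hT) (he' : S.ι swap * e * S.ι swap ∈ S.E hT) :
    e = 1 := by
  set w := S.ι swap with hw
  have hwi : w⁻¹ = w := S.swap_inv'
  have hww : w * w = 1 := S.swap_mul_swap
  have hwu : w * S.u * w⁻¹ = t * S.u := S.swap_conj_u
  have hwt : w * t * w⁻¹ = t := by rw [S.swap_commute.eq, mul_inv_cancel_right]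
  have key : ∀ e ∈ S.E hT, w * e * w ∈ S.E hT → ∃ c ∈ S.X, e = S.r⁻¹ * c * S.r := by
    intro e he he'
    obtain ⟨a, ha, b, hb, c, hc, hE⟩ := S.mem_E hT he
    obtain ⟨a', ha', b', hb', c', hc', hE'⟩ := S.mem_E hT he'
    have hsq : a * a = w * (a' * a') * w⁻¹ := by
      have h1 := S.tri_sq_t hT ha hb hc
      have h2 := S.tri_sq_t hT ha' hb' hc'
      simp only [← hE, ← hE'] at h1 h2
      rw [← h2, ← h1, S.t_inv]
      rw [hwi, show w * (w * e * w * (t * (w * e * w) * t)) * w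
        = (w * w) * e * (w * t * w) * e * (w * t * w) by group, hww, one_mul]
      rw [hwi] at hwt
      rw [hwt]; group
    have ha1 : a = 1 := S.eq_one_of_sq ha (S.X_inf_X' (mul_mem ha ha)
      (hsq ▸ S.swap_conj_X.2 (mul_mem ha' ha')))
    subst ha1
    have hsq' : S.r * (b * b) * S.r⁻¹ = w * (S.r⁻¹ * (c' * c') * S.r) * w⁻¹ := by
      have h1 := S.tri_sq_u hT (one_mem _) hb hc
      simp only [← hE] at h1
      have h3 : (w * e * w) * (t * S.u * (w * e * w) * (t * S.u)⁻¹) = S.r⁻¹ * (c' * c') * S.r := by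
        rw [hE', show t * S.u * (a' * ((S.r * b' * S.r⁻¹) * (S.r⁻¹ * c' * S.r))) * (t * S.u)⁻¹
          = t * (S.u * (a' * ((S.r * b' * S.r⁻¹) * (S.r⁻¹ * c' * S.r))) * S.u⁻¹) * t⁻¹ by group,
          S.u_conj_tri hT ha' hb' hc', S.t_conj_tri hT (inv_mem ha') hb' (inv_mem hc'), inv_inv]
        have h := (S.triHom hT).map_mul (⟨a', ha'⟩, ⟨b', hb'⟩, ⟨c', hc'⟩)
          (⟨a', ha'⟩⁻¹, ⟨b', hb'⟩⁻¹, ⟨c', hc'⟩)
        simp only [triHom, MonoidHom.coe_mk, OneHom.coe_mk, Prod.mk_mul_mk, mul_inv_cancel,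
          Subgroup.coe_mul, Subgroup.coe_inv, Subgroup.coe_one] at h
        rw [← h]; group
      rw [← h1, ← h3, ← hwu]
      rw [hwi, show w * (w * e * w * (w * S.u * w * (w * e * w) * (w * S.u * w)⁻¹)) * w
        = (w * w) * e * (w * w) * S.u * (w * w) * e * (w * w⁻¹) * S.u⁻¹ * (w⁻¹ * w) by group,
        hww, mul_inv_cancel, inv_mul_cancel]
      group
    have hb2 : b * b ∈ S.X' := by
      have h4 : b * b = S.r⁻¹ * (w * (S.r⁻¹ * (c' * c') * S.r) * w⁻¹) * S.r := by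
        rw [← hsq']; group
      rw [h4]
      have h5 : S.r⁻¹ * (w * (S.r⁻¹ * (c' * c') * S.r) * w⁻¹) * S.r
          = w * ((S.g * S.g)⁻¹ * (c' * c') * (S.g * S.g)) * w⁻¹ := by
        simp only [r, mul_inv_rev, ← hw, hwi]
        rw [show w * S.g⁻¹ * (w * (w * S.g⁻¹ * (c' * c') * (S.g * w)) * w) * (S.g * w)
          = w * S.g⁻¹ * (w * w) * S.g⁻¹ * (c' * c') * S.g * (w * w) * S.g * w by group, hww]
        group
      rw [h5]
      refine S.swap_conj_X.2 ?_
      have hgg : S.g * S.g ∈ S.D := S.mem_D_iff.2 S.g_mul_g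
      have := S.D_conj_X (inv_mem hgg) (mul_mem hc' hc')
      rwa [inv_inv] at this
    obtain rfl := S.eq_one_of_sq hb (S.X_inf_X' (mul_mem hb hb) hb2)
    exact ⟨c, hc, by simpa using hE⟩
  obtain ⟨c, hc, rfl⟩ := key e he he'
  obtain ⟨d, hd, hcd⟩ := key _ he' (by
    rw [show w * (w * (S.r⁻¹ * c * S.r) * w) * w
      = (w * w) * (S.r⁻¹ * c * S.r) * (w * w) by group, hww, one_mul, mul_one]
    exact he)
  -- both are fixed by `t u`, so `e` is fixed by `u`, which inverts it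
  have h1 : Commute (S.r⁻¹ * d * S.r) (t * S.u) := by
    have := (S.X_commute hd).map (MulAut.conj S.r⁻¹)
    simp only [MulAut.conj_apply, inv_inv, S.rinv_t] at this
    exact this
  rw [← hcd] at h1
  have h2 := h1.map (MulAut.conj w)
  simp only [MulAut.conj_apply] at h2
  rw [hwi, show w * (w * (S.r⁻¹ * c * S.r) * w) * w
      = (w * w) * (S.r⁻¹ * c * S.r) * (w * w) by group, hww, one_mul, mul_one] at h2
  have h3 : w * (t * S.u) * w = S.u := by
    have := S.swap_conj_tu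
    rwa [← hw, hwi] at this
  rw [h3] at h2
  have h4 : S.u * (S.r⁻¹ * c * S.r) * S.u⁻¹ = S.r⁻¹ * c⁻¹ * S.r := by
    have := S.u_conj_tri hT (one_mem _) (one_mem _) hc
    simpa using this
  rw [← h2.eq, mul_inv_cancel_right] at h4
  have h5 : c = c⁻¹ := by
    have := congrArg (fun z => S.r * z * S.r⁻¹) h4
    simpa [mul_assoc] using this
  have hc1 := S.eq_one_of_sq hc (by nth_rw 2 [h5]; rw [mul_inv_cancel])
  rw [hc1, mul_one, inv_mul_cancel]

theorem triangle_false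
    (hc : (centralizer ({t} : Set G)).index =
        Nat.card F ^ 2 * (Nat.card F ^ 2 + Nat.card F + 1) ∨
      (centralizer ({t} : Set G)).index =
        Nat.card F * (Nat.card F + 2) * (Nat.card F ^ 2 + Nat.card F - 1)) : False := by
  obtain ⟨p, e, hp, hp2, he, hq⟩ := S.exists_prime
  haveI := Fact.mk hp
  set q := Nat.card F with hqF
  set E := S.E hT with hEdef
  have hq3 : 3 ≤ q := by
    have h1 : p ≤ p ^ e := Nat.le_self_pow he.ne' p
    have h2 := hp.two_le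
    rw [hq]; omega
  have hE : Nat.card E = p ^ (3 * e) := by
    rw [hEdef, S.card_E hT, ← hqF, hq, pow_mul', pow_three]
  have hpq : p ∣ q := hq ▸ dvd_pow_self p he.ne'
  have hndvd := S.coprime_pred hp he hq
  have hG : Nat.card G = q * (q + 1) * Nat.card S.D * (centralizer ({t} : Set G)).index := S.card_G
  have hEG : p ^ (3 * e) ∣ Nat.card G := hE ▸ E.card_subgroup_dvd_card
  rcases hc with hc | hc
  swap
  · rw [hG, hc, pow_mul', ← hq, pow_three] at hEG
    have h1 : q * (q * q) ∣ q * (q * ((q + 1) * Nat.card S.D * ((q + 2) * (q ^ 2 + q - 1)))) := by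
      convert hEG using 1; ring
    have h2 : q ∣ (q + 1) * Nat.card S.D * ((q + 2) * (q ^ 2 + q - 1)) :=
      Nat.dvd_of_mul_dvd_mul_left (by omega) (Nat.dvd_of_mul_dvd_mul_left (by omega) h1)
    rcases (Nat.Prime.dvd_mul hp).1 (hpq.trans h2) with h | h
    · exact hndvd h
    rcases (Nat.Prime.dvd_mul hp).1 h with h | h
    · exact hp2 ((Nat.prime_dvd_prime_iff_eq hp Nat.prime_two).1 ((Nat.dvd_add_right hpq).1 h))
    · have h3 : p ∣ q ^ 2 + q := dvd_add (dvd_pow hpq two_ne_zero) hpq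
      have h4 : q ^ 2 + q = (q ^ 2 + q - 1) + 1 := by
        have : 1 ≤ q ^ 2 + q := by omega
        omega
      rw [h4] at h3
      exact hp.one_lt.ne' (Nat.dvd_one.1 ((Nat.dvd_add_right h).1 h3))
  have hG' : Nat.card G = p ^ (3 * e) * ((q + 1) * Nat.card S.D * (q ^ 2 + q + 1)) := by
    rw [hG, hc, pow_mul', ← hq]; ring
  have hrest : ¬ p ∣ (q + 1) * Nat.card S.D * (q ^ 2 + q + 1) := fun h => by
    rcases (Nat.Prime.dvd_mul hp).1 h with h | h
    · exact hndvd h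
    · exact hp.one_lt.ne' (Nat.dvd_one.1 ((Nat.dvd_add_right
        (dvd_add (dvd_pow hpq two_ne_zero) hpq)).1 h))
  have hfac : (Nat.card G).factorization p = 3 * e := by
    rw [hG', Nat.factorization_mul (pow_ne_zero _ hp.ne_zero) (fun h => hrest (by rw [h]; exact dvd_zero p)),
      Finsupp.add_apply, hp.factorization_pow, Finsupp.single_eq_same,
      Nat.factorization_eq_zero_of_not_dvd hrest, add_zero]
  let P : Sylow p G := Sylow.ofCard E (by rw [hE, hfac])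
  have hPE : (P : Subgroup G) = E := rfl
  -- the second Sylow subgroup has a regular orbit
  have hPp : IsPGroup p E := IsPGroup.of_card hE
  have hreg : Nat.card E ≤ Nat.card (Sylow p G) := by
    refine Nat.card_le_card_of_injective (fun a : E => ((a : G) * S.ι swap) • P) fun a b hab => ?_
    have h1 : (S.ι swap * ((b : G)⁻¹ * a) * S.ι swap) • P = P := by
      have := congrArg (((b : G) * S.ι swap)⁻¹ • ·) hab
      simp only [← mul_smul, inv_mul_cancel, one_smul] at this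
      rwa [mul_inv_rev, S.swap_inv', show S.ι swap * (b : G)⁻¹ * ((a : G) * S.ι swap)
        = S.ι swap * ((b : G)⁻¹ * a) * S.ι swap by group] at this
    have hmem : S.ι swap * ((b : G)⁻¹ * a) * S.ι swap ∈ E := by
      set k := S.ι swap * ((b : G)⁻¹ * a) * S.ι swap with hk
      obtain ⟨n, hn⟩ := hPp ⟨_, mul_mem (inv_mem b.2) a.2⟩
      have hkn : k ^ p ^ n = 1 := by
        have hc := conj_pow (a := S.ι swap) (b := (b : G)⁻¹ * a) (i := p ^ n)
        rw [S.swap_inv'] at hc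
        rw [hk, hc, show ((b : G)⁻¹ * a) ^ p ^ n = 1 from congrArg Subtype.val hn, mul_one,
          S.swap_mul_swap]
      obtain ⟨j, -, hj⟩ := (Nat.dvd_prime_pow hp).1 (orderOf_dvd_of_pow_eq_one hkn)
      have hkp : IsPGroup p (zpowers k) :=
        IsPGroup.of_card (n := j) (by rw [Nat.card_zpowers]; exact hj)
      have hle := hkp.inf_normalizer_sylow P
      have hkN : k ∈ normalizer ((P : Subgroup G) : Set G) :=
        Sylow.smul_eq_iff_mem_normalizer.1 h1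
      have hmem : k ∈ zpowers k ⊓ normalizer ((P : Subgroup G) : Set G) :=
        ⟨mem_zpowers k, hkN⟩
      have hmem' : k ∈ zpowers k ⊓ (P : Subgroup G) := hle ▸ hmem
      exact hPE ▸ hmem'.2
    have := S.inter_swap hT (mul_mem (inv_mem b.2) a.2) hmem
    exact Subtype.ext (inv_mul_eq_one.1 this).symm
  set N := normalizer ((E : Subgroup G) : Set G) with hN
  have hn : Nat.card (Sylow p G) = N.index := P.card_eq_index_normalizer.trans rfl
  have hD : Nat.Coprime (Nat.card E) (Nat.card S.D) := by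
    rw [hE]
    exact Nat.Coprime.pow_left _ ((Nat.Prime.coprime_iff_not_dvd hp).2
      fun h => hndvd (h.mul_left _))
  have hEN : E ≤ N := le_normalizer
  have hdvdN : Nat.card E * Nat.card S.D ∣ Nat.card N :=
    hD.mul_dvd_of_dvd_of_dvd (card_dvd_of_le hEN) (card_dvd_of_le (S.D_le_normalizer_E hT))
  obtain ⟨m, hm⟩ := hdvdN
  have hm2 : 2 ≤ m := by
    rcases Nat.lt_or_ge m 2 with hlt | hge
    swap
    · exact hge
    exfalso
    have hNpos : 0 < Nat.card N := Nat.card_pos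
    have hm1 : m = 1 := by
      rcases Nat.eq_zero_or_pos m with rfl | h
      · simp at hm; omega
      · omega
    rw [hm1, mul_one] at hm
    have hsup : E ⊔ S.D = N := by
      refine Subgroup.eq_of_le_of_card_ge (sup_le hEN (S.D_le_normalizer_E hT)) ?_
      rw [hm]
      exact Nat.le_of_dvd Nat.card_pos
        (hD.mul_dvd_of_dvd_of_dvd (card_dvd_of_le le_sup_left) (card_dvd_of_le le_sup_right))
    have hr : S.r ∈ E ⊔ S.D := hsup.symm ▸ S.r_mem_normalizer_E hT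
    obtain ⟨a, ha, d, hd, hrad⟩ :=
      H26.LThree.exists_mul_of_sup (S.D_le_normalizer_E hT) hr
    have h1 : a * t * a⁻¹ = S.u := by
      rw [← S.r_t, hrad, show a * d * t * (a * d)⁻¹ = a * (d * t * d⁻¹) * a⁻¹ by group,
        (S.mem_D_iff.1 hd).1.eq, mul_inv_cancel_right]
    have h2 : S.u * t ∈ E := by
      rw [← h1, show a * t * a⁻¹ * t = a * (t * a⁻¹ * t⁻¹) * (t * t) by group, S.mul_self, mul_one]
      exact mul_mem ha ((mem_normalizer_iff.1 (S.t_mem_normalizer_E hT) _).1 (inv_mem ha))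
    have h3 : (S.u * t) * (S.u * t) = 1 := by
      rw [show S.u * t * (S.u * t) = S.u * (t * S.u) * t by group, ← S.commute_u_t.eq,
        show S.u * (S.u * t) * t = (S.u * S.u) * (t * t) by group, S.u_mul_self, S.mul_self,
        one_mul]
    have h4 : S.u * t = 1 := H26.LThree.eq_one_of_sq_of_odd
      (by rw [hE]; exact (hp.odd_of_ne_two hp2).pow) h2 h3
    exact S.u_ne_t ((eq_inv_of_mul_eq_one_left h4).trans S.t_inv)
  have hidx := N.card_mul_index
  rw [hm, hG', hE, ← hn] at hidx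
  have hpe : p ^ (3 * e) = q * (q * q) := by rw [pow_mul', ← hq, pow_three]
  have h5 : m * Nat.card (Sylow p G) = (q + 1) * (q ^ 2 + q + 1) := by
    refine Nat.eq_of_mul_eq_mul_left (Nat.mul_pos (pow_pos hp.pos (3 * e))
      (Nat.card_pos (α := S.D))) ?_
    calc p ^ (3 * e) * Nat.card S.D * (m * Nat.card (Sylow p G))
        = p ^ (3 * e) * Nat.card S.D * m * Nat.card (Sylow p G) := by ring
      _ = p ^ (3 * e) * ((q + 1) * Nat.card S.D * (q ^ 2 + q + 1)) := hidx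
      _ = _ := by ring
  rw [hE, hpe] at hreg
  have h6 : 2 * (q * (q * q)) ≤ (q + 1) * (q ^ 2 + q + 1) := by
    rw [← h5]; exact Nat.mul_le_mul hm2 hreg
  nlinarith [Nat.mul_le_mul_left (q * q) hq3]

end Triangle

/-- With the index of the involution centraliser the configuration is the hexagon or a
matching. -/
theorem shapes (hc : (centralizer ({t} : Set G)).index =
        Nat.card F ^ 2 * (Nat.card F ^ 2 + Nat.card F + 1) ∨
      (centralizer ({t} : Set G)).index =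
        Nat.card F * (Nat.card F + 2) * (Nat.card F ^ 2 + Nat.card F - 1)) :
    ¬ S.Comm S.r S.X ∧ ¬ S.Comm S.r⁻¹ S.X ∧ (S.Comm S.r S.X' ∨ S.Comm S.r⁻¹ S.X') := by
  have h1 : ¬ S.Comm S.r S.X := fun h => S.triangle_false h hc
  have h3 : ¬ S.Comm S.r⁻¹ S.X := fun h => h1 (by simpa using S.comm_symm h)
  refine ⟨h1, h3, ?_⟩
  by_contra hno
  rw [not_or] at hno
  refine S.empty_false ?_ h1 hno.1 h3 hno.2
  rcases hc with h | h <;> rw [h]
  · exact (dvd_pow_self _ two_ne_zero).mul_right _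
  · exact (dvd_mul_right _ _).mul_right _

end Setting

end Cfsg.Agent.H35.Semi
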