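import Cfsg.Agent.H35.Semi.GLRoots

/-!
# Subgroups of `GL₂(F)` containing the split torus but no root element are monomial (`|F| ≥ 7`)
-/

set_option autoImplicit false
set_option linter.unusedSectionVars false
set_option linter.unusedSimpArgs false

namespace Cfsg.Agent.H35.Semi

open Matrix

variable {F : Type*} [Field F]

/-- An upper triangular element is diagonal times a root element. -/
theorem eq_tor_mul_xp {M : GL (Fin 2) F} (h : M.1 1 0 = 0) :
    ∃ (a d : Fˣ) (x : F), M = tor a d * xp x ∧ (a : F) * x = M.1 0 1 := by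
  have hd := M.det_ne_zero
  rw [Matrix.det_fin_two, h, mul_zero, sub_zero] at hd
  obtain ⟨h0, h1⟩ := mul_ne_zero_iff.mp hd
  refine ⟨Units.mk0 _ h0, Units.mk0 _ h1, M.1 0 1 / M.1 0 0, gl_ext ?_ ?_ ?_ ?_, ?_⟩ <;>
    simp [h, mul_div_cancel₀ _ h0]

/-- A lower triangular element is diagonal times a root element. -/
theorem eq_tor_mul_xm {M : GL (Fin 2) F} (h : M.1 0 1 = 0) :
    ∃ (a d : Fˣ) (x : F), M = tor a d * xm x ∧ (d : F) * x = M.1 1 0 := by
  have hd := M.det_ne_zero
  rw [Matrix.det_fin_two, h, zero_mul, sub_zero] at hd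
  obtain ⟨h0, h1⟩ := mul_ne_zero_iff.mp hd
  refine ⟨Units.mk0 _ h0, Units.mk0 _ h1, M.1 1 0 / M.1 1 1, gl_ext ?_ ?_ ?_ ?_, ?_⟩ <;>
    simp [h, mul_div_cancel₀ _ h1]

theorem tor_prod_entries (M N : GL (Fin 2) F) (e : Fˣ) :
    (M * tor 1 e * N).1 0 0 = M.1 0 0 * N.1 0 0 + M.1 0 1 * e * N.1 1 0 ∧
    (M * tor 1 e * N).1 0 1 = M.1 0 0 * N.1 0 1 + M.1 0 1 * e * N.1 1 1 ∧
    (M * tor 1 e * N).1 1 0 = M.1 1 0 * N.1 0 0 + M.1 1 1 * e * N.1 1 0 ∧
    (M * tor 1 e * N).1 1 1 = M.1 1 0 * N.1 0 1 + M.1 1 1 * e * N.1 1 1 := by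
  refine ⟨?_, ?_, ?_, ?_⟩ <;> simp [Matrix.mul_apply, Fin.sum_univ_two]

variable [Finite F]

/-- With the torus and without root elements every element is monomial. -/
theorem monomial_of_torus (h7 : 7 ≤ Nat.card F) (K : Subgroup (GL (Fin 2) F))
    (hT : ∀ a b : Fˣ, tor a b ∈ K) (hp : ∀ x : F, xp x ∈ K → x = 0)
    (hm : ∀ x : F, xm x ∈ K → x = 0) {M : GL (Fin 2) F} (hM : M ∈ K) :
    (M.1 0 1 = 0 ∧ M.1 1 0 = 0) ∨ (M.1 0 0 = 0 ∧ M.1 1 1 = 0) := by
  classical
  haveI := Fintype.ofFinite F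
  -- triangular elements of `K` are diagonal
  have hup : ∀ N ∈ K, N.1 1 0 = 0 → N.1 0 1 = 0 := by
    intro N hN h
    obtain ⟨a, d, x, rfl, hx⟩ := eq_tor_mul_xp h
    have h1 : xp x ∈ K := by
      have := mul_mem (inv_mem (hT a d)) hN
      rwa [inv_mul_cancel_left] at this
    rw [← hx, hp x h1, mul_zero]
  have hlow : ∀ N ∈ K, N.1 0 1 = 0 → N.1 1 0 = 0 := by
    intro N hN h
    obtain ⟨a, d, x, rfl, hx⟩ := eq_tor_mul_xm h
    have h1 : xm x ∈ K := by
      have := mul_mem (inv_mem (hT a d)) hN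
      rwa [inv_mul_cancel_left] at this
    rw [← hx, hm x h1, mul_zero]
  -- no element has all entries non-zero
  have key : ∀ N ∈ K, N.1 0 0 ≠ 0 → N.1 0 1 ≠ 0 → N.1 1 0 ≠ 0 → N.1 1 1 ≠ 0 → False := by
    intro N hN ha hb hc hd
    set a := N.1 0 0
    set b := N.1 0 1
    set c := N.1 1 0
    set d := N.1 1 1
    have hdet : a * d - b * c ≠ 0 := by
      have := N.det_ne_zero
      rwa [Matrix.det_fin_two] at this
    set Q : F → F := fun e => a ^ 2 + e ^ 2 * d ^ 2 + e * (a * d + b * c) with hQ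
    obtain ⟨r₁, hr⟩ : ∃ r₁ : F, ∀ e, Q e = 0 → e = r₁ ∨ e = -(a * d + b * c) / d ^ 2 - r₁ := by
      by_cases h : ∃ r₁, Q r₁ = 0
      · obtain ⟨r₁, hr₁⟩ := h
        refine ⟨r₁, fun e he => ?_⟩
        have e1 : (e - r₁) * ((e + r₁) * d ^ 2 + (a * d + b * c)) = 0 := by
          simp only [hQ] at hr₁ he
          linear_combination he - hr₁
        rcases mul_eq_zero.mp e1 with h1 | h1
        · exact Or.inl (sub_eq_zero.mp h1)
        · right
          field_simp
          linear_combination h1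
      · exact ⟨0, fun e he => absurd ⟨e, he⟩ h⟩
    obtain ⟨e, he⟩ : ∃ e : F, e ∉ ({0, -a / d, -a ^ 2 / (b * c), r₁,
        -(a * d + b * c) / d ^ 2 - r₁} : Finset F) := by
      by_contra hall
      push Not at hall
      have h : (Finset.univ : Finset F).card ≤ _ := Finset.card_le_card fun x _ => hall x
      rw [Finset.card_univ, ← Nat.card_eq_fintype_card] at h
      have := h.trans Finset.card_le_five
      omega
    simp only [Finset.mem_insert, Finset.mem_singleton, not_or] at he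
    obtain ⟨he0, he1, he2, he3, he4⟩ := he
    set E : Fˣ := Units.mk0 e he0
    obtain ⟨h00, h01, h10, h11⟩ := tor_prod_entries N N E
    set P := N * tor 1 E * N with hP
    have hPK : P ∈ K := mul_mem (mul_mem hN (hT 1 E)) hN
    have hs : a + e * d ≠ 0 := fun h => he1 (by field_simp; linear_combination h)
    have hP10 : P.1 1 0 ≠ 0 := by
      rw [h10, show c * a + d * (E : F) * c = c * (a + e * d) by
        rw [show (E : F) = e from rfl]; ring]
      exact mul_ne_zero hc hs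
    have hP00 : P.1 0 0 ≠ 0 := by
      rw [h00]
      exact fun h => he2 (by
        rw [show (E : F) = e from rfl] at h
        field_simp
        linear_combination h)
    have hf0 : -(c * P.1 0 0) / (d * P.1 1 0) ≠ 0 :=
      div_ne_zero (neg_ne_zero.mpr (mul_ne_zero hc hP00)) (mul_ne_zero hd hP10)
    set f : Fˣ := Units.mk0 _ hf0 with hfdef
    obtain ⟨-, k01, k10, -⟩ := tor_prod_entries N P f
    have hR : (N * tor 1 f * P).1 1 0 = 0 := by
      rw [k10, hfdef, Units.val_mk0]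
      field_simp
      ring
    have hR' := hup _ (mul_mem (mul_mem hN (hT 1 f)) hPK) hR
    rw [k01, hfdef, Units.val_mk0] at hR'
    field_simp at hR'
    rw [show (E : F) = e from rfl] at h00 h01 h10 h11
    rw [h00, h01, h10, h11] at hR'
    have h2 : b * c * (a * d - b * c) * Q e = 0 := by
      simp only [hQ]
      linear_combination hR'
    rcases mul_eq_zero.mp h2 with h3 | h3
    · exact mul_ne_zero (mul_ne_zero hb hc) hdet h3
    · exact (hr e h3).elim he3 he4
  by_cases hb : M.1 0 1 = 0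
  · exact Or.inl ⟨hb, hlow M hM hb⟩
  by_cases hc : M.1 1 0 = 0
  · exact absurd (hup M hM hc) hb
  refine Or.inr ?_
  by_contra hne
  obtain ⟨e, he⟩ : ∃ e : F, e ∉ ({0, -(M.1 0 1 * M.1 1 0) / M.1 1 1 ^ 2,
      -M.1 0 0 ^ 2 / (M.1 0 1 * M.1 1 0)} : Finset F) := by
    by_contra hall
    push Not at hall
    have h : (Finset.univ : Finset F).card ≤ _ := Finset.card_le_card fun x _ => hall x
    rw [Finset.card_univ, ← Nat.card_eq_fintype_card] at h
    have := h.trans Finset.card_le_three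
    omega
  simp only [Finset.mem_insert, Finset.mem_singleton, not_or] at he
  obtain ⟨he0, he1, he2⟩ := he
  obtain ⟨h00, h01, h10, h11⟩ := tor_prod_entries M M (Units.mk0 e he0)
  rw [Units.val_mk0] at h00 h01 h10 h11
  by_cases ha : M.1 0 0 = 0
  · have hd : M.1 1 1 ≠ 0 := fun h => hne ⟨ha, h⟩
    refine key _ (mul_mem (mul_mem hM (hT 1 (Units.mk0 e he0))) hM) ?_ ?_ ?_ ?_
    · rw [h00, ha]; simp [hb, hc, he0]
    · rw [h01, ha]; simp [hb, hd, he0]
    · rw [h10, ha]; simp [hc, hd, he0]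
    · rw [h11]
      exact fun h => he1 (by field_simp; linear_combination h)
  · by_cases hd : M.1 1 1 = 0
    · refine key _ (mul_mem (mul_mem hM (hT 1 (Units.mk0 e he0))) hM) ?_ ?_ ?_ ?_
      · rw [h00]
        exact fun h => he2 (by field_simp; linear_combination h)
      · rw [h01, hd]; simp [ha, hb]
      · rw [h10, hd]; simp [ha, hc]
      · rw [h11, hd]; simp [hb, hc]
    · exact key M hM ha hb hc hd

end Cfsg.Agent.H35.Semi
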