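import Cfsg.Agent.H35.Semi.Shapes
import Cfsg.Agent.H35.Semi.Monomial
import Cfsg.Agent.H1.Asch.FourCount

/-!
# The centraliser of a root element in the matching configuration

If `X` commutes with `Y = g X g⁻¹` but neither with `r X r⁻¹` nor with `(r⁻¹ w) X (r⁻¹ w)⁻¹`, and
`|F| ≥ 7`, then the centraliser of `x ∈ X#` is contained in `E Sc`, where `E = X Y` and `Sc` are the
scalars of `C(t)`.
-/

set_option autoImplicit false
set_option linter.unusedSectionVars false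
set_option linter.unusedSimpArgs false
set_option linter.style.haveILetI false
set_option linter.unusedVariables false

namespace Cfsg.Agent.H35.Semi

open Subgroup
open Cfsg (invertedBy)

universe u v

namespace Setting

variable {G : Type u} [Group G] [Finite G] {F : Type v} [Field F] [Finite F] {t : G}
variable (S : Setting G F t)
include S

/-! ### Conjugates of `X` depend only on the action on the four group -/

theorem exists_conj_eq {a b : G} (ht : a * t * a⁻¹ = b * t * b⁻¹)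
    (hu : a * S.u * a⁻¹ = b * S.u * b⁻¹) {x : G} (hx : x ∈ S.X) :
    ∃ x' ∈ S.X, a * x * a⁻¹ = b * x' * b⁻¹ := by
  have hd : b⁻¹ * a ∈ S.D := S.mem_D_iff.2
    ⟨mul_inv_eq_iff_eq_mul.1 (by
      rw [show b⁻¹ * a * t * (b⁻¹ * a)⁻¹ = b⁻¹ * (a * t * a⁻¹) * b by group, ht]; group),
    mul_inv_eq_iff_eq_mul.1 (by
      rw [show b⁻¹ * a * S.u * (b⁻¹ * a)⁻¹ = b⁻¹ * (a * S.u * a⁻¹) * b by group, hu]; group)⟩
  exact ⟨_, S.D_conj_X hd hx, by group⟩

theorem comm_of_act {a b : G} (ht : a * t * a⁻¹ = b * t * b⁻¹)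
    (hu : a * S.u * a⁻¹ = b * S.u * b⁻¹) (h : S.Comm a S.X) : S.Comm b S.X := by
  intro x hx
  obtain ⟨x', hx', he⟩ := S.exists_conj_eq ht.symm hu.symm hx
  rw [he]
  exact h x' hx'

/-! ### Torus and scalars -/

theorem Sc_le_D : S.Sc ≤ S.D := fun z hz => by
  obtain ⟨a, rfl⟩ := S.mem_Sc.1 hz
  exact S.mem_D.2 ⟨a, a, rfl⟩

theorem X'_conj_w {x : G} (hx : x ∈ S.X) : S.ι swap * x * S.ι swap ∈ S.X' := by
  have := S.swap_conj_X.2 hx
  rwa [S.swap_inv'] at this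

theorem X_conj_w {b : G} (hb : b ∈ S.X') : S.ι swap * b * S.ι swap ∈ S.X := by
  obtain ⟨a, rfl⟩ := S.mem_X'.1 hb
  refine S.mem_X.2 ⟨a, ?_⟩
  rw [← map_mul, ← map_mul, ← swap_conj_xp, swap_inv]
  congr 1
  rw [show swap * (swap * xp a * swap) * swap = (swap * swap) * xp a * (swap * swap) by group,
    swap_mul_self, one_mul, mul_one]

theorem tu_inv_X' {x : G} (hx : x ∈ S.X') : t * S.u * x * (t * S.u)⁻¹ = x⁻¹ := by
  rw [show t * S.u * x * (t * S.u)⁻¹ = t * (S.u * x * S.u⁻¹) * t⁻¹ by group, S.u_inv_X' hx,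
    ((S.X'_commute hx).inv_left).symm.eq, mul_inv_cancel_right]

/-- The torus is transitive on the nontrivial elements of `X`. -/
theorem exists_D_conj {x y : G} (hx : x ∈ S.X) (hx1 : x ≠ 1) (hy : y ∈ S.X) (hy1 : y ≠ 1) :
    ∃ d ∈ S.D, d * x * d⁻¹ = y := by
  obtain ⟨a, rfl⟩ := S.mem_X.1 hx
  obtain ⟨b, rfl⟩ := S.mem_X.1 hy
  have ha : a ≠ 0 := fun e => hx1 (by rw [e, xp_zero, map_one])
  have hb : b ≠ 0 := fun e => hy1 (by rw [e, xp_zero, map_one])
  refine ⟨S.ι (tor (Units.mk0 (b / a) (div_ne_zero hb ha)) 1), S.mem_D.2 ⟨_, _, rfl⟩, ?_⟩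
  rw [← map_inv, ← map_mul, ← map_mul, tor_conj_xp]
  simp [div_mul_cancel₀ _ ha]

theorem exists_D_conj' {x y : G} (hx : x ∈ S.X') (hx1 : x ≠ 1) (hy : y ∈ S.X') (hy1 : y ≠ 1) :
    ∃ d ∈ S.D, d * x * d⁻¹ = y := by
  obtain ⟨a, rfl⟩ := S.mem_X'.1 hx
  obtain ⟨b, rfl⟩ := S.mem_X'.1 hy
  have ha : a ≠ 0 := fun e => hx1 (by rw [e, xm_zero, map_one])
  have hb : b ≠ 0 := fun e => hy1 (by rw [e, xm_zero, map_one])
  refine ⟨S.ι (tor 1 (Units.mk0 (b / a) (div_ne_zero hb ha))), S.mem_D.2 ⟨_, _, rfl⟩, ?_⟩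
  rw [← map_inv, ← map_mul, ← map_mul, tor_conj_xm]
  simp [div_mul_cancel₀ _ ha]

theorem D_inf_X {x : G} (hx : x ∈ S.X) (hd : x ∈ S.D) : x = 1 := by
  refine S.eq_one_of_sq hx ?_
  have h1 := S.u_inv_X hx
  rw [(S.mem_D_iff.1 hd).2.symm.eq, mul_inv_cancel_right] at h1
  nth_rw 2 [h1]
  rw [mul_inv_cancel]

theorem mem_centralizer_pair {d : G} :
    d ∈ centralizer ({t, S.u} : Set G) ↔ d ∈ S.D := by
  rw [S.mem_D_iff, mem_centralizer_iff]
  refine ⟨fun h => ⟨(h t (Or.inl rfl)).symm, (h _ (Or.inr rfl)).symm⟩, fun h m hm => ?_⟩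
  rcases hm with rfl | rfl
  exacts [h.1.symm.eq, h.2.symm.eq]

theorem mem_Sc_of_commute {d x : G} (hd : d ∈ S.D) (hx : x ∈ S.X) (hx1 : x ≠ 1)
    (h : Commute d x) : d ∈ S.Sc := by
  obtain ⟨z, hz, y, hy, rfl⟩ := S.exists_of_commute hx hx1 (S.mem_D_iff.1 hd).1 h
  have hyD : y ∈ S.D := by
    have := mul_mem (inv_mem (S.Sc_le_D hz)) hd
    rwa [inv_mul_cancel_left] at this
  rw [S.D_inf_X hy hyD, mul_one]
  exact hz

/-! ### The core of the centraliser of a root element -/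

/-- Elements of odd order inverted by `t` lie in the odd core. -/
theorem mem_core_of_inverted {s : Set G} (hs : ∀ x ∈ s, x ∈ S.X) {x₀ : G} (hx₀ : x₀ ∈ s)
    (hx₀1 : x₀ ≠ 1) {y : G} (hy : y ∈ centralizer s) (hinv : t * y * t⁻¹ = y⁻¹)
    (hodd : Odd (orderOf y)) : y ∈ coreOf (centralizer s) := by
  obtain ⟨o, ho, c, hc, hct, he⟩ := S.exists_decomp hs hx₀ hx₀1 hy
  have hto : t * o * t⁻¹ ∈ coreOf (centralizer s) :=
    conj_mem_coreOf (le_normalizer (S.t_mem_centralizer hs)) ho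
  have hsq : y * y ∈ coreOf (centralizer s) := by
    have h1 : y⁻¹ = (t * o * t⁻¹) * c := by
      rw [← hinv, he, show t * (o * c) * t⁻¹ = (t * o * t⁻¹) * (t * c * t⁻¹) by group,
        hct.symm.eq, mul_inv_cancel_right]
    have h2 : y * y = o * (t * o * t⁻¹)⁻¹ := by
      calc y * y = y * (y⁻¹)⁻¹ := by rw [inv_inv]
        _ = (o * c) * ((t * o * t⁻¹) * c)⁻¹ := by rw [h1, ← he]
        _ = _ := by group
    rw [h2]
    exact mul_mem ho (inv_mem hto)
  obtain ⟨k, hk⟩ := hodd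
  have h3 : y = (y * y) ^ (k + 1) := by
    rw [← pow_two, ← pow_mul, show 2 * (k + 1) = orderOf y + 1 by omega, pow_succ,
      pow_orderOf_eq_one, one_mul]
  rw [h3]
  exact pow_mem hsq _

theorem X_le_core {x : G} (hx : x ∈ S.X) (hx1 : x ≠ 1) :
    S.X ≤ coreOf (centralizer ({x} : Set G)) := by
  have hs : ∀ y ∈ ({x} : Set G), y ∈ S.X := fun y hy => by rw [hy]; exact hx
  set M := centralizer ({x} : Set G) with hM
  set O := coreOf M with hO
  have hXcomm : ∀ a ∈ S.X, ∀ b ∈ S.X, Commute a b := by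
    intro a ha b hb
    obtain ⟨i, rfl⟩ := S.mem_X.1 ha
    obtain ⟨j, rfl⟩ := S.mem_X.1 hb
    show S.ι (xp i) * S.ι (xp j) = S.ι (xp j) * S.ι (xp i)
    rw [← map_mul, ← map_mul, xp_mul, xp_mul, add_comm]
  have hXM : S.X ≤ M := fun a ha => mem_centralizer_singleton_iff.2 (hXcomm a ha x hx).eq
  have hMO : ∀ m ∈ M, m ∈ normalizer (O : Set G) := fun m hm => by
    refine mem_normalizer_iff.2 fun o => ⟨conj_mem_coreOf (le_normalizer hm), fun ho => ?_⟩
    have := conj_mem_coreOf (le_normalizer (inv_mem hm)) ho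
    rwa [show m⁻¹ * (m * o * m⁻¹) * m⁻¹⁻¹ = o by group] at this
  have hXO : S.X ≤ normalizer (O : Set G) := fun a ha => hMO a (hXM ha)
  set N := O ⊔ S.X with hN
  have hNM : N ≤ M := sup_le (coreOf_le M) hXM
  haveI : (N.subgroupOf M).Normal := by
    refine normal_subgroupOf_of_le_normalizer ?_
    intro m hm
    obtain ⟨o, ho, c, hc, hct, rfl⟩ := S.exists_decomp hs rfl hx1 hm
    refine mul_mem (le_normalizer (mem_sup_left ho : o ∈ N)) ?_
    obtain ⟨z, hz, y, hy, rfl⟩ := S.exists_of_commute hx hx1 hct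
      (mem_centralizer_singleton_iff.1 hc)
    refine mem_normalizer_iff_map_conj_eq.2 ?_
    rw [hN, Subgroup.map_sup]
    congr 1
    · exact mem_normalizer_iff_map_conj_eq.1 (hMO _ hc)
    · refine mem_normalizer_iff_map_conj_eq.1 (centralizer_le_normalizer _ ?_)
      refine mem_centralizer_iff.2 fun a ha => ?_
      exact ((S.Sc_central hz (S.X_commute ha)).symm.mul_right (hXcomm a ha y hy)).eq
  have hodd : Odd (Nat.card N) := by
    by_contra he
    obtain ⟨g, hg⟩ := exists_prime_orderOf_dvd_card' (G := N) 2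
      (even_iff_two_dvd.1 (Nat.not_odd_iff_even.1 he))
    obtain ⟨o, ho, a, ha, hga⟩ := H26.LThree.exists_mul_of_sup hXO g.2
    have key : ∀ n : ℕ, ∃ o' ∈ O, (g : G) ^ n = o' * a ^ n := by
      intro n
      induction n with
      | zero => exact ⟨1, one_mem _, by simp⟩
      | succ n ih =>
        obtain ⟨o', ho', hn⟩ := ih
        refine ⟨o' * (a ^ n * o * (a ^ n)⁻¹),
          mul_mem ho' ((mem_normalizer_iff.1 (pow_mem (hXO ha) n) o).1 ho), ?_⟩
        rw [pow_succ, hn, hga, pow_succ]; group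
    obtain ⟨o', ho', hn⟩ := key (Nat.card S.X)
    have ha' : a ^ Nat.card S.X = 1 :=
      congrArg Subtype.val (pow_card_eq_one' (G := S.X) (x := ⟨a, ha⟩))
    obtain ⟨k, hk⟩ : Odd (Nat.card S.X) := by rw [S.card_X]; exact S.odd
    have hg2 : (g : G) * g = 1 := by
      have := congrArg Subtype.val (pow_orderOf_eq_one g)
      rw [← Subgroup.orderOf_coe] at hg
      rw [Subgroup.coe_pow, ← Subgroup.orderOf_coe, hg, pow_two] at this
      exact this
    rw [ha', mul_one, hk, pow_succ, pow_mul, pow_two, hg2, one_pow, one_mul] at hn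
    have hgO : (g : G) ∈ O := hn ▸ ho'
    have h1 : (g : G) = 1 := H26.LThree.eq_one_of_sq_of_odd (coreOf_odd M) hgO hg2
    rw [← Subgroup.orderOf_coe, h1, orderOf_one] at hg
    omega
  intro a ha
  have hodd' : Odd (Nat.card (N.subgroupOf M)) := by
    rwa [Nat.card_congr (subgroupOfEquivOfLe hNM).toEquiv]
  exact ⟨⟨a, hXM ha⟩, Cores.le_oddCore hodd' (mem_subgroupOf.2 (mem_sup_right ha)), rfl⟩

/-! ### The matching -/

/-- The partner of `X` in `C(u)`. -/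
noncomputable def Y : Subgroup G := S.X.map (MulAut.conj S.g).toMonoidHom

/-- The group `X Y`. -/
noncomputable def EXY : Subgroup G := S.X ⊔ S.Y

theorem mem_Y {y : G} : y ∈ S.Y ↔ ∃ x ∈ S.X, S.g * x * S.g⁻¹ = y := Iff.rfl

theorem g_rinv_t : S.g⁻¹ * t * S.g = S.u := by
  calc S.g⁻¹ * t * S.g = S.g⁻¹ * (S.g * S.u * S.g⁻¹) * S.g := by rw [S.g_u]
    _ = S.u := by group

theorem t_inv_Y {y : G} (hy : y ∈ S.Y) : t * y * t⁻¹ = y⁻¹ := by
  obtain ⟨x, hx, rfl⟩ := S.mem_Y.1 hy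
  rw [show t * (S.g * x * S.g⁻¹) * t⁻¹
    = S.g * ((S.g⁻¹ * t * S.g) * x * (S.g⁻¹ * t * S.g)⁻¹) * S.g⁻¹ by group, S.g_rinv_t,
    S.u_inv_X hx]
  group

theorem Y_commute_u {y : G} (hy : y ∈ S.Y) : Commute y S.u := by
  obtain ⟨x, hx, rfl⟩ := S.mem_Y.1 hy
  have := (S.X_commute hx).map (MulAut.conj S.g)
  simp only [MulAut.conj_apply, S.g_t] at this
  exact this

theorem tu_inv_Y {y : G} (hy : y ∈ S.Y) : t * S.u * y * (t * S.u)⁻¹ = y⁻¹ := by
  rw [show t * S.u * y * (t * S.u)⁻¹ = t * (S.u * y * S.u⁻¹) * t⁻¹ by group,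
    (S.Y_commute_u hy).symm.eq, mul_inv_cancel_right, S.t_inv_Y hy]

theorem D_conj_Y {d y : G} (hd : d ∈ S.D) (hy : y ∈ S.Y) : d * y * d⁻¹ ∈ S.Y := by
  obtain ⟨x, hx, rfl⟩ := S.mem_Y.1 hy
  have hd' : S.g⁻¹ * d * S.g ∈ S.D := by
    rw [← S.g_conj_D, show S.g * (S.g⁻¹ * d * S.g) * S.g⁻¹ = d by group]
    exact hd
  exact S.mem_Y.2 ⟨_, S.D_conj_X hd' hx, by group⟩

theorem card_Y : Nat.card S.Y = Nat.card F :=
  (card_map_of_injective (MulAut.conj S.g).injective).trans S.card_X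

theorem odd_of_mem_root {y : G} (hy : y ∈ S.X ∨ y ∈ S.Y) : Odd (orderOf y) := by
  rcases hy with h | h
  · exact Odd.of_dvd_nat (by rw [S.card_X]; exact S.odd : Odd (Nat.card S.X))
      ((Subgroup.orderOf_coe (⟨y, h⟩ : S.X)).symm ▸ orderOf_dvd_natCard _)
  · exact Odd.of_dvd_nat (by rw [S.card_Y]; exact S.odd : Odd (Nat.card S.Y))
      ((Subgroup.orderOf_coe (⟨y, h⟩ : S.Y)).symm ▸ orderOf_dvd_natCard _)

section Matching

variable (hA : S.Comm S.g S.X)
include hA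

theorem comm_XY {x y : G} (hx : x ∈ S.X) (hy : y ∈ S.Y) : Commute x y := by
  obtain ⟨b, hb, rfl⟩ := S.mem_Y.1 hy
  exact hA b hb x hx

theorem Y_le_normalizer_X : S.Y ≤ normalizer (S.X : Set G) := fun y hy =>
  centralizer_le_normalizer _ (mem_centralizer_iff.2 fun x hx => (S.comm_XY hA hx hy).eq)

theorem mem_EXY {e : G} (he : e ∈ S.EXY) : ∃ x ∈ S.X, ∃ y ∈ S.Y, e = x * y :=
  H26.LThree.exists_mul_of_sup (S.Y_le_normalizer_X hA) he

theorem tu_inv_E {e : G} (he : e ∈ S.EXY) : t * S.u * e * (t * S.u)⁻¹ = e⁻¹ := by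
  obtain ⟨x, hx, y, hy, rfl⟩ := S.mem_EXY hA he
  rw [show t * S.u * (x * y) * (t * S.u)⁻¹
    = (t * S.u * x * (t * S.u)⁻¹) * (t * S.u * y * (t * S.u)⁻¹) by group, S.tu_inv_X hx,
    S.tu_inv_Y hy, _root_.mul_inv_rev, (S.comm_XY hA hx hy).inv_inv.eq]

theorem card_EXY : Nat.card S.EXY = Nat.card F * Nat.card F := by
  rw [EXY, H26.LThree.card_sup_disjoint (S.Y_le_normalizer_X hA), S.card_X, S.card_Y]
  rw [eq_bot_iff]
  rintro z ⟨hz, hz'⟩
  rw [mem_bot]
  refine S.eq_one_of_sq hz ?_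
  have h1 := S.t_inv_Y hz'
  rw [(S.X_commute hz).symm.eq, mul_inv_cancel_right] at h1
  nth_rw 2 [h1]
  rw [mul_inv_cancel]

theorem odd_EXY : Odd (Nat.card S.EXY) := by rw [S.card_EXY hA]; exact S.odd.mul S.odd

theorem D_le_normalizer_EXY : S.D ≤ normalizer (S.EXY : Set G) := by
  intro d hd
  refine mem_normalizer_iff_map_conj_eq.2 (eq_of_le_of_card_ge ?_
    (card_map_of_injective (MulAut.conj d).injective).ge)
  rw [EXY, Subgroup.map_sup]
  exact sup_le_sup (by rintro _ ⟨x, hx, rfl⟩; exact S.D_conj_X hd hx)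
    (by rintro _ ⟨y, hy, rfl⟩; exact S.D_conj_Y hd hy)

variable (hT : ¬ S.Comm S.r S.X) (hB : ¬ S.Comm (S.r⁻¹ * S.ι swap) S.X)
include hT hB

theorem B_of_comm {P : Prop} (h : ∀ b ∈ S.X', S.r⁻¹ * b * S.r ∈ centralizer (S.X : Set G)) : P := by
  refine absurd ?_ hB
  intro x hx
  rw [_root_.mul_inv_rev, inv_inv, S.swap_inv', show S.r⁻¹ * S.ι swap * x * (S.ι swap * S.r)
    = S.r⁻¹ * (S.ι swap * x * S.ι swap) * S.r by group]
  exact h _ (S.X'_conj_w hx)

/-- No root element of `t u` normalises `E`. -/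
theorem no_root {R : Subgroup G} (hR : R = S.X ∨ R = S.X') {a : G} (ha : a ∈ R)
    (haN : S.r⁻¹ * a * S.r ∈ normalizer (S.EXY : Set G)) : a = 1 := by
  by_contra ha1
  obtain ⟨p, e, hp, hp2, he, hq⟩ := S.exists_prime
  haveI := Fact.mk hp
  have htr : ∀ b ∈ R, b ≠ 1 → ∃ d ∈ S.D, d * a * d⁻¹ = b := by
    intro b hb hb1
    rcases hR with rfl | rfl
    exacts [S.exists_D_conj ha ha1 hb hb1, S.exists_D_conj' ha ha1 hb hb1]
  have hRu : ∀ b ∈ R, S.u * b * S.u⁻¹ = b⁻¹ := by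
    rcases hR with rfl | rfl
    exacts [fun b hb => S.u_inv_X hb, fun b hb => S.u_inv_X' hb]
  have hRD : ∀ d ∈ S.D, ∀ b ∈ R, d * b * d⁻¹ ∈ R := by
    rcases hR with rfl | rfl
    exacts [fun d hd b hb => S.D_conj_X hd hb, fun d hd b hb => S.D_conj_X' hd hb]
  have hRcard : Nat.card R = p ^ e := by
    rcases hR with rfl | rfl
    · rw [S.card_X, hq]
    · have hmap : S.X' = S.X.map (MulAut.conj (S.ι swap)).toMonoidHom := by
        ext g
        constructor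
        · intro hg
          refine ⟨S.ι swap * g * S.ι swap, S.X_conj_w hg, ?_⟩
          show S.ι swap * (S.ι swap * g * S.ι swap) * (S.ι swap)⁻¹ = g
          rw [S.swap_inv', show S.ι swap * (S.ι swap * g * S.ι swap) * S.ι swap
            = (S.ι swap * S.ι swap) * g * (S.ι swap * S.ι swap) by group, S.swap_mul_swap,
            one_mul, mul_one]
        · rintro ⟨x, hx, rfl⟩
          exact S.swap_conj_X.2 hx
      rw [hmap, card_map_of_injective (MulAut.conj (S.ι swap)).injective, S.card_X, hq]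
  set W := R.map (MulAut.conj S.r⁻¹).toMonoidHom with hW
  have hWmem : ∀ {z : G}, z ∈ W ↔ ∃ b ∈ R, S.r⁻¹ * b * S.r = z := fun {z} =>
    ⟨fun ⟨b, hb, hz⟩ => ⟨b, hb, by rw [← hz]; simp⟩,
     fun ⟨b, hb, hz⟩ => ⟨b, hb, by rw [← hz]; simp⟩⟩
  have hWN : W ≤ normalizer (S.EXY : Set G) := by
    intro z hz
    obtain ⟨b, hb, rfl⟩ := hWmem.1 hz
    by_cases hb1 : b = 1
    · subst hb1; rw [mul_one, inv_mul_cancel]; exact one_mem _
    obtain ⟨d, hd, hdb⟩ := htr b hb hb1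
    have hd' : S.r⁻¹ * d * S.r ∈ normalizer (S.EXY : Set G) := S.D_le_normalizer_EXY hA (by
      have := S.rinv_conj_D.2 hd
      rwa [inv_inv] at this)
    rw [← hdb, show S.r⁻¹ * (d * a * d⁻¹) * S.r
      = (S.r⁻¹ * d * S.r) * (S.r⁻¹ * a * S.r) * (S.r⁻¹ * d * S.r)⁻¹ by group]
    exact mul_mem (mul_mem hd' haN) (inv_mem hd')
  have hWD : ∀ d ∈ S.D, ∀ z ∈ W, d * z * d⁻¹ ∈ W := by
    intro d hd z hz
    obtain ⟨b, hb, rfl⟩ := hWmem.1 hz
    exact hWmem.2 ⟨_, hRD _ (S.r_conj_D.2 hd) b hb, by group⟩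
  have hWt : ∀ z ∈ W, t * z * t⁻¹ = z⁻¹ := by
    intro z hz
    obtain ⟨b, hb, rfl⟩ := hWmem.1 hz
    rw [show t * (S.r⁻¹ * b * S.r) * t⁻¹
      = S.r⁻¹ * ((S.r * t * S.r⁻¹) * b * (S.r * t * S.r⁻¹)⁻¹) * S.r by group, S.r_t, hRu b hb]
    group
  have hWp : IsPGroup p W := IsPGroup.of_card (n := e) (by
    rw [hW, card_map_of_injective (MulAut.conj S.r⁻¹).injective, hRcard])
  -- a nontrivial element of `E` fixed by `W`
  obtain ⟨f, hfE, hf1, hf⟩ : ∃ f ∈ S.EXY, f ≠ 1 ∧ ∀ z ∈ W, Commute z f := by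
    letI : MulAction W S.EXY :=
      { smul := fun z b => ⟨(z : G) * b * (z : G)⁻¹,
          H26.LThree.conj_mem_of_mem_normalizer (hWN z.2) b.2⟩
        one_smul := fun b => Subtype.ext (by show (1 : G) * b * (1 : G)⁻¹ = b; group)
        mul_smul := fun z z' b => Subtype.ext (by
          show ((z : G) * z') * b * ((z : G) * z')⁻¹ = (z : G) * ((z' : G) * b * (z' : G)⁻¹) * (z : G)⁻¹
          group) }
    have h1 : (1 : S.EXY) ∈ MulAction.fixedPoints W S.EXY := fun z => Subtype.ext (by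
      show (z : G) * (1 : G) * (z : G)⁻¹ = 1; group)
    have hdvd : p ∣ Nat.card S.EXY := by
      rw [S.card_EXY hA, hq]; exact (dvd_pow_self p he.ne').mul_right _
    obtain ⟨b, hb, hb1⟩ := hWp.exists_fixed_point_of_prime_dvd_card_of_fixed_point S.EXY hdvd h1
    refine ⟨b, b.2, fun h => hb1 (Subtype.ext h).symm, fun z hz => ?_⟩
    exact mul_inv_eq_iff_eq_mul.1 (congrArg Subtype.val (hb ⟨z, hz⟩))
  obtain ⟨x₁, hx₁, y₁, hy₁, rfl⟩ := S.mem_EXY hA hfE
  -- `t` splits it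
  have hf' : ∀ z ∈ W, Commute z (x₁ * y₁⁻¹) := by
    intro z hz
    have := (hf _ (inv_mem hz)).map (MulAut.conj t)
    simp only [MulAut.conj_apply] at this
    rw [hWt _ (inv_mem hz), inv_inv, show t * (x₁ * y₁) * t⁻¹ = (t * x₁ * t⁻¹) * (t * y₁ * t⁻¹)
      by group, S.t_inv_Y hy₁, (S.X_commute hx₁).symm.eq, mul_inv_cancel_right] at this
    exact this
  have hxy := S.comm_XY hA hx₁ hy₁
  have hxx : ∀ z ∈ W, Commute z (x₁ * x₁) ∧ Commute z (y₁ * y₁) := by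
    intro z hz
    refine ⟨?_, ?_⟩
    · have := (hf z hz).mul_right (hf' z hz)
      rwa [show x₁ * y₁ * (x₁ * y₁⁻¹) = x₁ * (y₁ * x₁) * y₁⁻¹ by group, ← hxy.eq,
        show x₁ * (x₁ * y₁) * y₁⁻¹ = x₁ * x₁ by group] at this
    · have := (hf z hz).mul_right (hf' z hz).inv_right
      rwa [show x₁ * y₁ * (x₁ * y₁⁻¹)⁻¹ = x₁ * (y₁ * y₁) * x₁⁻¹ by group,
        (hxy.mul_right hxy).eq, mul_inv_cancel_right] at this
  by_cases hx₁1 : x₁ * x₁ = 1
  · -- `W` centralises a nontrivial element of `Y`, hence `Y`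
    rw [S.eq_one_of_sq hx₁ hx₁1, one_mul] at hf1
    have hY1 : y₁ * y₁ ≠ 1 := fun h => hf1 (H26.LThree.eq_one_of_sq_of_odd
      (by rw [S.card_Y]; exact S.odd) hy₁ h)
    have hall : ∀ y ∈ S.Y, ∀ z ∈ W, Commute z y := by
      intro y hy z hz
      by_cases hy1 : y = 1
      · subst hy1; exact Commute.one_right z
      obtain ⟨x, hx, rfl⟩ := S.mem_Y.1 hy
      obtain ⟨x₂, hx₂, hy₂⟩ := S.mem_Y.1 (mul_mem hy₁ hy₁)
      obtain ⟨d, hd, hdx⟩ := S.exists_D_conj hx₂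
        (fun h => hY1 (by rw [← hy₂, h, mul_one, mul_inv_cancel])) hx
        (fun h => hy1 (by rw [h, mul_one, mul_inv_cancel]))
      set d' := S.g * d * S.g⁻¹ with hd'
      have hd'D : d' ∈ S.D := S.g_conj_D.2 hd
      have hz' : d'⁻¹ * z * d' ∈ W := by
        have := hWD _ (inv_mem hd'D) z hz
        rwa [inv_inv] at this
      have := (hxx _ hz').2.map (MulAut.conj d')
      simp only [MulAut.conj_apply] at this
      rw [show d' * (d'⁻¹ * z * d') * d'⁻¹ = z by group, ← hy₂, hd',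
        show S.g * d * S.g⁻¹ * (S.g * x₂ * S.g⁻¹) * (S.g * d * S.g⁻¹)⁻¹
          = S.g * (d * x₂ * d⁻¹) * S.g⁻¹ by group, hdx] at this
      exact this
    set w := S.ι swap with hw
    have hwi : w⁻¹ = w := S.swap_inv'
    have hww : w * w = 1 := S.swap_mul_swap
    have hd3 : S.r * S.r * S.r ∈ S.D := by
      refine S.mem_D_iff.2 ⟨mul_inv_eq_iff_eq_mul.1 ?_, mul_inv_eq_iff_eq_mul.1 ?_⟩
      · rw [show S.r * S.r * S.r * t * (S.r * S.r * S.r)⁻¹
          = S.r * (S.r * (S.r * t * S.r⁻¹) * S.r⁻¹) * S.r⁻¹ by group, S.r_t, S.r_u, S.r_tu]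
      · rw [show S.r * S.r * S.r * S.u * (S.r * S.r * S.r)⁻¹
          = S.r * (S.r * (S.r * S.u * S.r⁻¹) * S.r⁻¹) * S.r⁻¹ by group, S.r_u, S.r_tu, S.r_t]
    set d3 := S.r * S.r * S.r with hd3def
    have hrw : ∀ x : G, S.r * (w * x * w) * S.r⁻¹ = S.g * x * S.g⁻¹ := fun x => by
      rw [r, ← hw, _root_.mul_inv_rev, hwi, show S.g * w * (w * x * w) * (w * S.g⁻¹)
        = S.g * (w * w) * x * (w * w) * S.g⁻¹ by group, hww, mul_one, mul_one]
    rcases hR with rfl | rfl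
    · -- conjugation by `r`: `X` commutes with `r⁻¹ X' r`
      refine S.B_of_comm hA hT hB fun b hb x hx => ?_
      have hb' : d3⁻¹ * b * d3 ∈ S.X' := by
        have := S.D_conj_X' (inv_mem hd3) hb
        rwa [inv_inv] at this
      have hy : S.r * (d3⁻¹ * b * d3) * S.r⁻¹ ∈ S.Y := by
        refine S.mem_Y.2 ⟨_, S.X_conj_w hb', ?_⟩
        rw [← hw, ← hrw, show w * (w * (d3⁻¹ * b * d3) * w) * w
          = (w * w) * (d3⁻¹ * b * d3) * (w * w) by group, hww, one_mul, mul_one]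
      have h := (hall _ hy _ (hWmem.2 ⟨x, hx, rfl⟩)).map (MulAut.conj S.r)
      simp only [MulAut.conj_apply] at h
      rw [show S.r * (S.r⁻¹ * x * S.r) * S.r⁻¹ = x by group,
        show S.r * (S.r * (d3⁻¹ * b * d3) * S.r⁻¹) * S.r⁻¹ = S.r⁻¹ * b * S.r by
          rw [hd3def]; group] at h
      exact h.eq
    · -- conjugation by `w r`: `X` commutes with `r X r⁻¹`
      refine hT fun y hy x hx => ?_
      have hg2 : S.g * S.g ∈ S.D := S.mem_D_iff.2 S.g_mul_g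
      have hwyw : w * y * w ∈ S.X' := S.X'_conj_w hy
      have hb1 : S.g * S.g * (w * y * w) * (S.g * S.g)⁻¹ ∈ S.X' := S.D_conj_X' hg2 hwyw
      set b' := d3⁻¹ * (S.g * S.g * (w * y * w) * (S.g * S.g)⁻¹) * d3 with hb'def
      have hb' : b' ∈ S.X' := by
        have := S.D_conj_X' (inv_mem hd3) hb1
        rwa [inv_inv] at this
      have hY' : S.r * b' * S.r⁻¹ ∈ S.Y := by
        refine S.mem_Y.2 ⟨_, S.X_conj_w hb', ?_⟩
        rw [← hw, ← hrw, show w * (w * b' * w) * w = (w * w) * b' * (w * w) by group, hww,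
          one_mul, mul_one]
      have h := (hall _ hY' _ (hWmem.2 ⟨_, S.X'_conj_w hx, rfl⟩)).map (MulAut.conj (w * S.r))
      simp only [MulAut.conj_apply] at h
      rw [← hw, show w * S.r * (S.r⁻¹ * (w * x * w) * S.r) * (w * S.r)⁻¹
          = (w * w) * x * (w * w⁻¹) by group, hww, one_mul, mul_inv_cancel, mul_one,
        show w * S.r * (S.r * b' * S.r⁻¹) * (w * S.r)⁻¹
          = w * (S.r⁻¹ * (d3 * b' * d3⁻¹) * S.r) * w⁻¹ by rw [hd3def]; group,
        show d3 * b' * d3⁻¹ = S.g * S.g * (w * y * w) * (S.g * S.g)⁻¹ by rw [hb'def]; group,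
        r, ← hw, _root_.mul_inv_rev, hwi,
        show w * (w * S.g⁻¹ * (S.g * S.g * (w * y * w) * (S.g * S.g)⁻¹) * (S.g * w)) * w
          = (w * w) * (S.g * w * y * w * S.g⁻¹) * (w * w) by group, hww, one_mul, mul_one] at h
      show x * (S.r * y * S.r⁻¹) = S.r * y * S.r⁻¹ * x
      rw [r, ← hw, _root_.mul_inv_rev, hwi]
      simpa only [mul_assoc] using h.eq
  · -- `W` centralises a nontrivial element of `X`, hence `X`
    have hall : ∀ x ∈ S.X, ∀ z ∈ W, Commute z x := by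
      intro x hx z hz
      by_cases hx1' : x = 1
      · subst hx1'; exact Commute.one_right z
      obtain ⟨d, hd, hdx⟩ := S.exists_D_conj (mul_mem hx₁ hx₁) hx₁1 hx hx1'
      have hz' : d⁻¹ * z * d ∈ W := by
        have := hWD _ (inv_mem hd) z hz
        rwa [inv_inv] at this
      have := (hxx _ hz').1.map (MulAut.conj d)
      simp only [MulAut.conj_apply] at this
      rw [show d * (d⁻¹ * z * d) * d⁻¹ = z by group, hdx] at this
      exact this
    rcases hR with rfl | rfl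
    · have h1 : S.Comm S.r⁻¹ S.X := fun b hb x hx => by
        rw [inv_inv]; exact (hall x hx _ (hWmem.2 ⟨b, hb, rfl⟩)).symm.eq
      exact hT (by simpa using S.comm_symm h1)
    · exact S.B_of_comm hA hT hB fun b hb x hx => (hall x hx _ (hWmem.2 ⟨b, hb, rfl⟩)).symm.eq

/-- The normaliser of `E` in `C(t u)` is monomial. -/
theorem sq_mem_D (h7 : 7 ≤ Nat.card F) {k : G} (hk : Commute k (t * S.u))
    (hkN : k ∈ normalizer (S.EXY : Set G)) : k * k ∈ S.D := by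
  let ψ : GL (Fin 2) F →* G := (MulAut.conj S.r⁻¹).toMonoidHom.comp S.ι
  have hψ : ∀ M, ψ M = S.r⁻¹ * S.ι M * S.r := fun M => by simp [ψ]
  have hψD : ∀ a b : Fˣ, ψ (tor a b) ∈ S.D := fun a b => by
    have := S.rinv_conj_D.2 (S.mem_D.2 ⟨a, b, rfl⟩ : S.ι (tor a b) ∈ S.D)
    rw [inv_inv] at this
    rwa [hψ]
  obtain ⟨M, hM⟩ : ∃ M, ψ M = k := by
    have h1 := hk.map (MulAut.conj S.r)
    simp only [MulAut.conj_apply, S.r_tu] at h1
    obtain ⟨M, hM⟩ := S.exists_preimage h1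
    exact ⟨M, by rw [hψ, hM]; group⟩
  have hMK : M ∈ (normalizer (S.EXY : Set G)).comap ψ := by rw [mem_comap, hM]; exact hkN
  have hp : ∀ x : F, xp x ∈ (normalizer (S.EXY : Set G)).comap ψ → x = 0 := by
    intro x hx
    rw [mem_comap, hψ] at hx
    have h := S.no_root hA hT hB (Or.inl rfl) (S.mem_X.2 ⟨x, rfl⟩) hx
    rw [← map_one S.ι, ← xp_zero] at h
    exact S.ι_xp_injective h
  have hm : ∀ x : F, xm x ∈ (normalizer (S.EXY : Set G)).comap ψ → x = 0 := by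
    intro x hx
    rw [mem_comap, hψ] at hx
    have h := S.no_root hA hT hB (Or.inr rfl) (S.mem_X'.2 ⟨x, rfl⟩) hx
    have h2 : xm x = 1 := S.ker_det h (Units.ext (by simp [Matrix.det_fin_two]))
    simpa using congrArg (fun N : GL (Fin 2) F => N.1 1 0) h2
  have hdiag : (M * M).1 0 1 = 0 ∧ (M * M).1 1 0 = 0 := by
    rcases monomial_of_torus h7 _ (fun a b => mem_comap.2 (S.D_le_normalizer_EXY hA (hψD a b)))
      hp hm hMK with ⟨h1, h2⟩ | ⟨h1, h2⟩ <;>
      simp [Matrix.mul_apply, Fin.sum_univ_two, h1, h2]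
  obtain ⟨a, d, x, hMM, hx⟩ := eq_tor_mul_xp hdiag.2
  rw [hdiag.1, mul_eq_zero] at hx
  rw [← hM, ← map_mul, hMM, hx.resolve_left a.ne_zero, xp_zero, mul_one]
  exact hψD a d

/-- The structure of the odd core of the centraliser of a root element. -/
theorem core_struct {x : G} (hx : x ∈ S.X) (hx1 : x ≠ 1) :
    S.EXY ≤ coreOf (centralizer ({x} : Set G)) ∧
    (∀ o ∈ coreOf (centralizer ({x} : Set G)), t * S.u * o * (t * S.u)⁻¹ ∈
      coreOf (centralizer ({x} : Set G))) ∧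
    (S.EXY : Set G) = invertedBy (coreOf (centralizer ({x} : Set G))) (t * S.u) ∧
    (∀ k ∈ coreOf (centralizer ({x} : Set G)), Commute k (t * S.u) →
      k ∈ normalizer (S.EXY : Set G)) ∧
    coreOf (centralizer ({x} : Set G)) ⊓ centralizer ({t} : Set G) ≤ S.EXY ⊔ S.Sc ∧
    coreOf (centralizer ({x} : Set G)) ⊓ centralizer ({S.u} : Set G) ≤ S.EXY ⊔ S.Sc := by
  classical
  have hs : ∀ y ∈ ({x} : Set G), y ∈ S.X := fun y hy => by rw [hy]; exact hx
  set O := coreOf (centralizer ({x} : Set G)) with hO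
  have hOx : ∀ o ∈ O, Commute o x := fun o ho =>
    mem_centralizer_singleton_iff.1 (coreOf_le _ ho)
  have htu : (t * S.u) * (t * S.u) = 1 := by
    rw [mul_assoc, ← mul_assoc S.u t, S.commute_u_t.eq, mul_assoc t S.u, S.u_mul_self, mul_one,
      S.mul_self]
  have hOt : ∀ o ∈ O, t * o * t⁻¹ ∈ O := fun o ho =>
    conj_mem_coreOf (le_normalizer (S.t_mem_centralizer hs)) ho
  have hOu : ∀ o ∈ O, S.u * o * S.u⁻¹ ∈ O := fun o ho =>
    conj_mem_coreOf (S.u_mem_normalizer hs) ho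
  have hOv : ∀ o ∈ O, t * S.u * o * (t * S.u)⁻¹ ∈ O := fun o ho => by
    rw [show t * S.u * o * (t * S.u)⁻¹ = t * (S.u * o * S.u⁻¹) * t⁻¹ by group]
    exact hOt _ (hOu o ho)
  have hXO : S.X ≤ O := S.X_le_core hx hx1
  have hYO : S.Y ≤ O := fun y hy => S.mem_core_of_inverted hs rfl hx1
    (mem_centralizer_singleton_iff.2 (S.comm_XY hA hx hy).symm.eq) (S.t_inv_Y hy)
    (S.odd_of_mem_root (Or.inr hy))
  have hEO : S.EXY ≤ O := sup_le hXO hYO
  -- the part in `C(u)`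
  have hu : ∀ o ∈ O, Commute o S.u → ∃ d ∈ O ⊓ centralizer ({t, S.u} : Set G),
      ∃ y ∈ S.Y, o = d * y := by
    intro o ho hou
    let φ : GL (Fin 2) F →* G := (MulAut.conj S.g).toMonoidHom.comp S.ι
    have hφ : ∀ M, φ M = S.g * S.ι M * S.g⁻¹ := fun M => rfl
    have hKodd : Odd (Nat.card (O.comap φ)) := by
      rw [← card_mul_index ((φ.comp (O.comap φ).subtype).ker), index_ker]
      refine Odd.mul ?_ ?_
      · refine Odd.of_dvd_nat S.ker_odd ?_
        rw [← card_map_of_injective (O.comap φ).subtype_injective]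
        refine card_dvd_of_le ?_
        rintro _ ⟨N, hN, rfl⟩
        exact conj_eq_one_iff.1 (show S.g * S.ι N.1 * S.g⁻¹ = 1 from hN)
      · refine Odd.of_dvd_nat (coreOf_odd (centralizer ({x} : Set G))) (card_dvd_of_le ?_)
        rintro _ ⟨N, rfl⟩
        exact N.2
    have hup := upper_of_root_le S.odd hKodd (fun a => mem_comap.2 (by
      rw [hφ]; exact hYO (S.mem_Y.2 ⟨_, S.mem_X.2 ⟨a, rfl⟩, rfl⟩)))
    obtain ⟨M, hM⟩ : ∃ M, φ M = o := by
      have h1 := hou.map (MulAut.conj S.g⁻¹)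
      simp only [MulAut.conj_apply, inv_inv] at h1
      rw [show S.g⁻¹ * S.u * S.g = t by rw [← S.g_t]; group] at h1
      obtain ⟨M, hM⟩ := S.exists_preimage h1
      exact ⟨M, by rw [hφ, hM]; group⟩
    obtain ⟨a, d, c, hMe, -⟩ := eq_tor_mul_xp (hup M (mem_comap.2 (hM ▸ ho)))
    have hy : φ (xp c) ∈ S.Y := S.mem_Y.2 ⟨_, S.mem_X.2 ⟨c, rfl⟩, rfl⟩
    have hdD : φ (tor a d) ∈ S.D := S.g_conj_D.2 (S.mem_D.2 ⟨a, d, rfl⟩)
    have hoe : o = φ (tor a d) * φ (xp c) := by rw [← map_mul, ← hMe, hM]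
    refine ⟨φ (tor a d), ⟨?_, S.mem_centralizer_pair.2 hdD⟩, _, hy, hoe⟩
    have := mul_mem ho (inv_mem (hYO hy))
    rwa [hoe, mul_inv_cancel_right] at this
  have hS0 : ∀ d ∈ O ⊓ centralizer ({t, S.u} : Set G), d ∈ S.Sc := fun d hd =>
    S.mem_Sc_of_commute (S.mem_centralizer_pair.1 hd.2) hx hx1 (hOx d hd.1)
  have htpart : ∀ o ∈ O, Commute o t → ∃ d ∈ O ⊓ centralizer ({t, S.u} : Set G),
      ∃ y ∈ S.X, o = d * y := by
    intro o ho hot
    obtain ⟨z, hz, y, hy, rfl⟩ := S.exists_of_commute hx hx1 hot (hOx o ho)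
    refine ⟨z, ⟨?_, S.mem_centralizer_pair.2 (S.Sc_le_D hz)⟩, y, hy, rfl⟩
    have := mul_mem ho (inv_mem (hXO hy))
    rwa [mul_inv_cancel_right] at this
  set S0 := O ⊓ centralizer ({t, S.u} : Set G) with hS0def
  have hle : ∀ (c : G) (R : Subgroup G),
      (∀ o ∈ O, Commute o c → ∃ d ∈ S0, ∃ y ∈ R, o = d * y) →
      Nat.card ↥(O ⊓ centralizer ({c} : Set G)) ≤ Nat.card S0 * Nat.card R := by
    intro c R h
    rw [← Nat.card_prod]
    choose! d hd y hy he using h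
    refine Nat.card_le_card_of_injective
      (fun o => ((⟨d o, hd o o.2.1 (mem_centralizer_singleton_iff.1 o.2.2)⟩ : S0),
        (⟨y o, hy o o.2.1 (mem_centralizer_singleton_iff.1 o.2.2)⟩ : R))) fun o o' hoo => ?_
    simp only [Prod.mk.injEq, Subtype.mk.injEq] at hoo
    refine Subtype.ext ?_
    rw [he o o.2.1 (mem_centralizer_singleton_iff.1 o.2.2),
      he o' o'.2.1 (mem_centralizer_singleton_iff.1 o'.2.2), hoo.1, hoo.2]
  have h1 := hle t S.X htpart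
  have h2 := hle S.u S.Y hu
  rw [S.card_X] at h1
  rw [S.card_Y] at h2
  have hBW := H1.Asch.card_mul_fix_sq (x := t) (y := S.u) S.mul_self S.u_mul_self
    S.commute_u_t.symm (coreOf_odd _) hOt hOu
  have hdec := H38.card_decomp htu (coreOf_odd _) hOv
  rw [← hO] at hBW hdec
  rw [← hS0def] at hBW
  have hI : Nat.card (invertedBy O (t * S.u)) ≤ Nat.card F * Nat.card F := by
    refine Nat.le_of_mul_le_mul_right (c := Nat.card S0 ^ 2) ?_
      (pow_pos (Nat.card_pos (α := S0)) 2)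
    refine Nat.le_of_mul_le_mul_left ?_
      (Nat.card_pos (α := ↥(O ⊓ centralizer ({t * S.u} : Set G))))
    rw [← mul_assoc, ← hdec, hBW]
    calc _ ≤ (Nat.card S0 * Nat.card F) * (Nat.card S0 * Nat.card F) *
        Nat.card ↥(O ⊓ centralizer ({t * S.u} : Set G)) := by gcongr
      _ = _ := by ring
  have hsub : (S.EXY : Set G) ⊆ invertedBy O (t * S.u) := fun e he =>
    ⟨hEO he, S.tu_inv_E hA he⟩
  have heq : (S.EXY : Set G) = invertedBy O (t * S.u) :=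
    Set.eq_of_subset_of_ncard_le hsub (by
      rw [← Nat.card_coe_set_eq, ← Nat.card_coe_set_eq]
      exact hI.trans (S.card_EXY hA).ge) (Set.toFinite _)
  have hmem : ∀ {g : G}, g ∈ S.EXY ↔ g ∈ invertedBy O (t * S.u) := fun {g} => Set.ext_iff.1 heq g
  refine ⟨hEO, hOv, heq, fun k hk hkv => ?_, ?_, ?_⟩
  · have key : ∀ k ∈ O, Commute k (t * S.u) → ∀ e ∈ S.EXY, k * e * k⁻¹ ∈ S.EXY := by
      intro k hk hkv e he
      obtain ⟨he1, he2⟩ := hmem.1 he
      refine hmem.2 ⟨mul_mem (mul_mem hk he1) (inv_mem hk), ?_⟩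
      rw [show t * S.u * (k * e * k⁻¹) * (t * S.u)⁻¹
        = (t * S.u * k * (t * S.u)⁻¹) * (t * S.u * e * (t * S.u)⁻¹)
          * (t * S.u * k * (t * S.u)⁻¹)⁻¹ by group, he2, hkv.symm.eq, mul_inv_cancel_right]
      group
    refine mem_normalizer_iff.2 fun e => ⟨key k hk hkv e, fun h => ?_⟩
    have := key _ (inv_mem hk) hkv.inv_left _ h
    rwa [show k⁻¹ * (k * e * k⁻¹) * k⁻¹⁻¹ = e by group] at this
  · rintro o ⟨ho, hoc⟩
    obtain ⟨d, hd, y, hy, rfl⟩ := htpart o ho (mem_centralizer_singleton_iff.1 hoc)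
    exact mul_mem (mem_sup_right (hS0 d hd)) (mem_sup_left (mem_sup_left hy))
  · rintro o ⟨ho, hoc⟩
    obtain ⟨d, hd, y, hy, rfl⟩ := hu o ho (mem_centralizer_singleton_iff.1 hoc)
    exact mul_mem (mem_sup_right (hS0 d hd)) (mem_sup_left (mem_sup_right hy))

/-- The centraliser of a root element lies in `E Sc`. -/
theorem centralizer_le (h7 : 7 ≤ Nat.card F) {x : G} (hx : x ∈ S.X) (hx1 : x ≠ 1) {m : G}
    (hm : Commute m x) : ∃ e ∈ S.EXY, ∃ z ∈ S.Sc, m = e * z := by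
  have hs : ∀ y ∈ ({x} : Set G), y ∈ S.X := fun y hy => by rw [hy]; exact hx
  obtain ⟨-, -, -, hN, ht', hu'⟩ := S.core_struct hA hT hB hx hx1
  have hScN : S.Sc ≤ normalizer (S.EXY : Set G) := S.Sc_le_D.trans (S.D_le_normalizer_EXY hA)
  have hO' : coreOf (centralizer ({x} : Set G)) ≤ S.EXY ⊔ S.Sc := by
    refine S.core_le hs ht' hu' ?_
    rintro k ⟨hk, hkc⟩
    have hkv : Commute k (t * S.u) := mem_centralizer_singleton_iff.1 hkc
    exact mem_sup_right (S.mem_Sc_of_commute (H26.LThree.mem_of_sq_mem (coreOf_odd _) hk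
      (S.sq_mem_D hA hT hB h7 hkv (hN k hk hkv))) hx hx1
      (mem_centralizer_singleton_iff.1 (coreOf_le _ hk)))
  obtain ⟨o, ho, c, hc, hct, rfl⟩ := S.exists_decomp hs rfl hx1
    (mem_centralizer_singleton_iff.2 hm.eq)
  obtain ⟨z, hz, y, hy, rfl⟩ := S.exists_of_commute hx hx1 hct
    (mem_centralizer_singleton_iff.1 hc)
  exact H26.LThree.exists_mul_of_sup hScN
    (mul_mem (hO' ho) (mul_mem (mem_sup_right hz) (mem_sup_left (mem_sup_left hy))))

/-- `E` meets the scalars trivially. -/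
theorem EXY_inf_Sc {e : G} (he : e ∈ S.EXY) (hz : e ∈ S.Sc) : e = 1 :=
  H26.LThree.eq_one_of_inverted (S.odd_EXY hA) he (S.tu_inv_E hA he)
    ((S.mem_D_iff.1 (S.Sc_le_D hz)).1.mul_right (S.mem_D_iff.1 (S.Sc_le_D hz)).2).symm.eq

end Matching

end Setting

end Cfsg.Agent.H35.Semi
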