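import Cfsg.Agent.H35.Semi.MatchData
import Cfsg.Agent.H26.LThree.OneClass

/-!
# The matching configuration for `q = 5`

Here `C(t) = GL₂(5)`, the torus is transitive on the elements `x y` with `x, y ≠ 1`, so every
nontrivial element of `E = X Y` is a root element; but the centre of a Sylow `5`-subgroup of order
at least `125` lies in `E`, and centralisers of root elements have Sylow `5`-subgroups of order `25`.
-/

set_option autoImplicit false
set_option linter.unusedSectionVars false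
set_option linter.unusedSimpArgs false
set_option linter.style.haveILetI false
set_option linter.unusedVariables false

namespace Cfsg.Agent.H35.Semi

open Subgroup
open Cfsg (invertedBy)
open Cfsg.Agent.H26.LThree (ra rb)

universe u v

/-- With the torus and without root elements there is no unipotent element. -/
theorem no_unipotent {F : Type v} [Field F] (h2 : (2 : F) ≠ 0) (h3 : (3 : F) ≠ 0)
    (K : Subgroup (GL (Fin 2) F)) (hT : ∀ a b : Fˣ, tor a b ∈ K)
    (hp : ∀ x : F, xp x ∈ K → x = 0) (hm : ∀ x : F, xm x ∈ K → x = 0) {M : GL (Fin 2) F}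
    (hM : M ∈ K) (htr : M.1 0 0 + M.1 1 1 = 2)
    (hdet : M.1 0 0 * M.1 1 1 - M.1 0 1 * M.1 1 0 = 1) : M = 1 := by
  have key : ∀ N ∈ K, N.1 0 0 + N.1 1 1 = 2 →
      N.1 0 0 * N.1 1 1 - N.1 0 1 * N.1 1 0 = 1 → N.1 0 0 ≠ 1 → N.1 0 0 ≠ 2 →
      2 * N.1 0 0 ≠ 1 → False := by
    intro N hN htr hdet ha1 ha2 ha3
    have hd : N.1 1 1 = 2 - N.1 0 0 := by linear_combination htr
    have hbc : N.1 0 1 * N.1 1 0 ≠ 0 := fun h => by
      rw [hd] at hdet
      have : (N.1 0 0 - 1) * (N.1 0 0 - 1) = 0 := by linear_combination -hdet - h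
      exact ha1 (sub_eq_zero.mp (mul_self_eq_zero.mp this))
    have he0 : -(2 * N.1 0 0 - 1) / (2 * (2 - N.1 0 0)) ≠ 0 :=
      div_ne_zero (neg_ne_zero.mpr (sub_ne_zero.mpr ha3))
        (mul_ne_zero h2 (sub_ne_zero.mpr (Ne.symm ha2)))
    set e : Fˣ := Units.mk0 _ he0 with he
    have h4 : 2 - N.1 0 0 ≠ 0 := sub_ne_zero.mpr (Ne.symm ha2)
    obtain ⟨-, k01, k10, -⟩ := tor_prod_entries N (N * N) e
    have e00 : (N * N).1 0 0 = 2 * N.1 0 0 - 1 := by
      simp [Matrix.mul_apply, Fin.sum_univ_two]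
      rw [hd] at hdet
      linear_combination -hdet
    have e01 : (N * N).1 0 1 = 2 * N.1 0 1 := by
      simp [Matrix.mul_apply, Fin.sum_univ_two]
      linear_combination N.1 0 1 * htr
    have e10 : (N * N).1 1 0 = 2 * N.1 1 0 := by
      simp [Matrix.mul_apply, Fin.sum_univ_two]
      linear_combination N.1 1 0 * htr
    have e11 : (N * N).1 1 1 = 3 - 2 * N.1 0 0 := by
      simp [Matrix.mul_apply, Fin.sum_univ_two]
      rw [hd] at hdet ⊢
      linear_combination -hdet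
    have hP : N * tor 1 e * (N * N) ∈ K := mul_mem (mul_mem hN (hT 1 e)) (mul_mem hN hN)
    have hP10 : (N * tor 1 e * (N * N)).1 1 0 = 0 := by
      rw [k10, e00, e10, hd, he, Units.val_mk0]
      field_simp
      ring
    obtain ⟨a, d, x, hPe, hx⟩ := eq_tor_mul_xp hP10
    have hxK : xp x ∈ K := by
      rw [hPe] at hP
      have := mul_mem (inv_mem (hT a d)) hP
      rwa [inv_mul_cancel_left] at this
    rw [hp x hxK, mul_zero, k01, e01, e11, he, Units.val_mk0] at hx
    field_simp at hx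
    have h5 : 3 * N.1 0 1 = 0 := by linear_combination -hx
    rcases mul_eq_zero.mp h5 with h6 | h6
    · exact h3 h6
    · exact hbc (by rw [h6, zero_mul])
  by_cases ha1 : M.1 0 0 = 1
  · -- `M` is a root element
    have hd : M.1 1 1 = 1 := by linear_combination htr - ha1
    rw [ha1, hd] at hdet
    have hbc : M.1 0 1 * M.1 1 0 = 0 := by linear_combination -hdet
    rcases mul_eq_zero.mp hbc with h | h
    · have hMe : M = xm (M.1 1 0) := gl_ext (by simp [ha1]) (by simp [h]) (by simp) (by simp [hd])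
      have h0 := hm _ (hMe ▸ hM)
      rw [hMe, h0, xm_zero]
    · have hMe : M = xp (M.1 0 1) := gl_ext (by simp [ha1]) (by simp) (by simp [h]) (by simp [hd])
      have h0 := hp _ (hMe ▸ hM)
      rw [hMe, h0, xp_zero]
  exfalso
  obtain ⟨N, hN, hN00, hN11, hN01, hN10⟩ : ∃ N ∈ K, N.1 0 0 = M.1 1 1 ∧ N.1 1 1 = M.1 0 0 ∧
      N.1 0 1 = -M.1 0 1 ∧ N.1 1 0 = -M.1 1 0 := by
    let N : GL (Fin 2) F := ⟨!![M.1 1 1, -M.1 0 1; -M.1 1 0, M.1 0 0],
      M.1, by
        refine Matrix.ext fun i j => ?_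
        fin_cases i <;> fin_cases j <;> simp [Matrix.mul_apply, Fin.sum_univ_two] <;>
          first | linear_combination hdet | ring, by
        refine Matrix.ext fun i j => ?_
        fin_cases i <;> fin_cases j <;> simp [Matrix.mul_apply, Fin.sum_univ_two] <;>
          first | linear_combination hdet | ring⟩
    have hNM : N = M⁻¹ := eq_inv_of_mul_eq_one_left (Units.ext N.val_inv)
    exact ⟨N, hNM ▸ inv_mem hM, rfl, rfl, rfl, rfl⟩
  by_cases hgood : M.1 0 0 ≠ 2 ∧ 2 * M.1 0 0 ≠ 1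
  · exact key M hM htr hdet ha1 hgood.1 hgood.2
  · have hd : M.1 1 1 = 2 - M.1 0 0 := by linear_combination htr
    refine key N hN (by rw [hN00, hN11]; linear_combination htr)
      (by rw [hN00, hN11, hN01, hN10]; linear_combination hdet) ?_ ?_ ?_ <;> rw [hN00, hd] <;>
      intro h
    · exact ha1 (by linear_combination -h)
    · rcases not_and_or.mp hgood with h' | h' <;> simp only [not_not] at h'
      · exact h2 (by linear_combination -h - h')
      · exact one_ne_zero (show (1 : F) = 0 by linear_combination -2 * h - h')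
    · rcases not_and_or.mp hgood with h' | h' <;> simp only [not_not] at h'
      · exact one_ne_zero (show (1 : F) = 0 by linear_combination -h - 2 * h')
      · exact h2 (by linear_combination h + h')

namespace Setting

variable {G : Type u} [Group G] [Finite G] {F : Type v} [Field F] [Finite F] {t : G}
variable (S : Setting G F t)
include S

variable (hA : S.Comm S.g S.X) (hT : ¬ S.Comm S.r S.X)
  (hB : ¬ S.Comm (S.r⁻¹ * S.ι swap) S.X) (h5 : Nat.card F = 5)
include hA hT hB h5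

theorem ι_injective_five : Function.Injective S.ι := by
  rw [injective_iff_map_eq_one]
  intro M hM
  obtain ⟨a, rfl, ha⟩ := S.ker_scalar hM
  have h4 : orderOf a ∣ 4 := by
    have := orderOf_dvd_natCard a
    rwa [Nat.card_units, h5] at this
  have : a = 1 := orderOf_eq_one_iff.1 (Nat.eq_one_of_dvd_coprimes
    (show Nat.Coprime 4 (orderOf a) from Nat.Coprime.pow_left 2 (Nat.coprime_two_left.2 ha))
    h4 dvd_rfl)
  rw [this]
  exact map_one (torHom (F := F))

theorem scalar_four {z : G} (hz : z ∈ S.Sc) : z ^ 4 = 1 := by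
  obtain ⟨a, rfl⟩ := S.mem_Sc.1 hz
  have h : a ^ 4 = 1 := by
    have := pow_card_eq_one' (G := Fˣ) (x := a)
    rwa [Nat.card_units, h5] at this
  rw [← map_pow]
  have h' : tor a a ^ 4 = 1 := by
    have := map_pow (torHom.comp ((MonoidHom.id Fˣ).prod (MonoidHom.id Fˣ))) a 4
    rw [h, map_one] at this
    exact this.symm
  rw [h', map_one]

theorem not_dvd_core_v {x : G} (hx : x ∈ S.X) (hx1 : x ≠ 1) :
    ¬ 5 ∣ Nat.card ↥(coreOf (centralizer ({x} : Set G)) ⊓
      centralizer ({t * S.u} : Set G)) := by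
  intro hdvd
  haveI : Fact (Nat.Prime 5) := ⟨by norm_num⟩
  haveI := Fintype.ofFinite F
  haveI : CharP F 5 := charP_of_card_eq_prime (by rwa [← Nat.card_eq_fintype_card])
  obtain ⟨⟨k, hkO, hkv⟩, hk⟩ := exists_prime_orderOf_dvd_card' 5 hdvd
  rw [← Subgroup.orderOf_coe] at hk
  replace hk : orderOf k = 5 := hk
  have hk5 : k ^ 5 = 1 := by rw [← hk]; exact pow_orderOf_eq_one k
  have hkv' : Commute k (t * S.u) := mem_centralizer_singleton_iff.1 hkv
  obtain ⟨-, -, -, hN, -, -⟩ := S.core_struct hA hT hB hx hx1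
  have hkN := hN k hkO hkv'
  let ψ : GL (Fin 2) F →* G := (MulAut.conj S.r⁻¹).toMonoidHom.comp S.ι
  have hψ : ∀ M, ψ M = S.r⁻¹ * S.ι M * S.r := fun M => by simp [ψ]
  obtain ⟨M, hM⟩ : ∃ M, ψ M = k := by
    have h1 := hkv'.map (MulAut.conj S.r)
    simp only [MulAut.conj_apply, S.r_tu] at h1
    obtain ⟨M, hM⟩ := S.exists_preimage h1
    exact ⟨M, by rw [hψ, hM]; group⟩
  have hinj : Function.Injective ψ :=
    (MulAut.conj S.r⁻¹).injective.comp (S.ι_injective_five hA hT hB h5)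
  have hM5 : M ^ 5 = 1 := hinj (by rw [map_pow, hM, hk5, map_one])
  have hnil : (M.1 - 1) ^ 5 = 0 := by
    rw [sub_pow_char_of_commute (p := 5) (Commute.one_right M.1), one_pow, ← Units.val_pow_eq_pow_val,
      hM5, Units.val_one, sub_self]
  have htr : (M.1 - 1).trace = 0 :=
    IsNilpotent.eq_zero (Matrix.isNilpotent_trace_of_isNilpotent ⟨5, hnil⟩)
  have hdet : (M.1 - 1).det = 0 := by
    have := congrArg Matrix.det hnil
    rw [Matrix.det_pow, Matrix.det_zero] at this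
    exact pow_eq_zero_iff (by norm_num : 5 ≠ 0) |>.mp this
  rw [Matrix.trace_fin_two] at htr
  rw [Matrix.det_fin_two] at hdet
  simp at htr hdet
  have hMK : M ∈ (normalizer (S.EXY : Set G)).comap ψ := by rw [mem_comap, hM]; exact hkN
  have h1 := no_unipotent S.two_ne (fun h3 => by
      have h := (CharP.cast_eq_zero_iff F 5 3).mp (by exact_mod_cast h3)
      omega)
    _ (fun a b => mem_comap.2 (S.D_le_normalizer_EXY hA (by
      have := S.rinv_conj_D.2 (S.mem_D.2 ⟨a, b, rfl⟩ : S.ι (tor a b) ∈ S.D)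
      rw [inv_inv] at this
      rwa [hψ])))
    (fun y hy => by
      rw [mem_comap, hψ] at hy
      have h := S.no_root hA hT hB (Or.inl rfl) (S.mem_X.2 ⟨y, rfl⟩) hy
      rw [← map_one S.ι, ← xp_zero] at h
      exact S.ι_xp_injective h)
    (fun y hy => by
      rw [mem_comap, hψ] at hy
      have h := S.no_root hA hT hB (Or.inr rfl) (S.mem_X'.2 ⟨y, rfl⟩) hy
      have h2 : xm y = 1 := S.ι_injective_five hA hT hB h5 (h.trans (map_one _).symm)
      simpa using congrArg (fun N : GL (Fin 2) F => N.1 1 0) h2)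
    hMK (by linear_combination htr) (by linear_combination hdet + htr)
  rw [h1, map_one] at hM
  rw [← hM, orderOf_one] at hk
  omega

/-- A `5`-subgroup of the centraliser of a root element has order at most `25`. -/
theorem le_core_and_dvd {x : G} (hx : x ∈ S.X) (hx1 : x ≠ 1) {Q : Subgroup G}
    (hQ : IsPGroup 5 Q) (hQx : Q ≤ centralizer ({x} : Set G)) :
    Q ≤ coreOf (centralizer ({x} : Set G)) ∧ Nat.card Q ∣ 25 := by
  haveI : Fact (Nat.Prime 5) := ⟨by norm_num⟩
  have hs : ∀ y ∈ ({x} : Set G), y ∈ S.X := fun y hy => by rw [hy]; exact hx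
  set O := coreOf (centralizer ({x} : Set G)) with hO
  obtain ⟨hEO, hOv, heq, -, -, -⟩ := S.core_struct hA hT hB hx hx1
  have hle : Q ≤ O := by
    intro g hg
    obtain ⟨o, ho, c, hc, hct, he⟩ := S.exists_decomp hs rfl hx1 (hQx hg)
    obtain ⟨z, hz, y, hy, rfl⟩ := S.exists_of_commute hx hx1 hct
      (mem_centralizer_singleton_iff.1 hc)
    have hy' : y ∈ O := S.X_le_core hx hx1 hy
    have hzy : Commute z y := S.Sc_central hz (S.X_commute hy)
    have hgz : g = o * y * z := by rw [he, hzy.eq, mul_assoc]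
    have hzM : z ∈ centralizer ({x} : Set G) :=
      mem_centralizer_singleton_iff.2 (S.Sc_central hz (S.X_commute hx)).eq
    have key : ∀ m : ℕ, ∃ o' ∈ O, g ^ m = o' * z ^ m := by
      intro m
      induction m with
      | zero => exact ⟨1, one_mem _, by simp⟩
      | succ m ih =>
        obtain ⟨o', ho', hm⟩ := ih
        refine ⟨o' * (z ^ m * (o * y) * (z ^ m)⁻¹), mul_mem ho'
          (conj_mem_coreOf (le_normalizer (pow_mem hzM m)) (mul_mem ho hy')), ?_⟩
        rw [pow_succ, hm, hgz, pow_succ]; group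
    obtain ⟨o', ho', h4⟩ := key 4
    rw [S.scalar_four hA hT hB h5 hz, mul_one] at h4
    obtain ⟨n, hn⟩ := hQ ⟨g, hg⟩
    have hn' : g ^ 5 ^ n = 1 := congrArg Subtype.val hn
    obtain ⟨j, hj⟩ : ∃ j : ℕ, 5 ^ n = 4 * j + 1 := ⟨5 ^ n / 4, by
      have : 5 ^ n % 4 = 1 := by rw [Nat.pow_mod]; simp
      omega⟩
    have hg4 : g * (g ^ 4) ^ j = 1 := by rw [← pow_mul, ← pow_succ', ← hj, hn']
    rw [eq_inv_of_mul_eq_one_left hg4]
    exact inv_mem (pow_mem (h4 ▸ ho') j)
  refine ⟨hle, ?_⟩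
  have hcard : Nat.card O = Nat.card ↥(O ⊓ centralizer ({t * S.u} : Set G)) * 25 := by
    have htu : (t * S.u) * (t * S.u) = 1 := by
      rw [mul_assoc, ← mul_assoc S.u t, S.commute_u_t.eq, mul_assoc t S.u, S.u_mul_self, mul_one,
        S.mul_self]
    rw [H38.card_decomp htu (coreOf_odd _) hOv, ← heq]
    show _ * Nat.card S.EXY = _
    rw [S.card_EXY hA, h5]
  obtain ⟨k, hk⟩ := IsPGroup.iff_card.1 hQ
  have hdvd : 5 ^ k ∣ Nat.card ↥(O ⊓ centralizer ({t * S.u} : Set G)) * 25 :=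
    hcard ▸ hk ▸ card_dvd_of_le hle
  rw [hk]
  exact ((Nat.Prime.coprime_iff_not_dvd (Fact.out : Nat.Prime 5)).2
    (S.not_dvd_core_v hA hT hB h5 hx hx1)).pow_left k |>.dvd_of_dvd_mul_left hdvd

/-- There is no matching configuration for `q = 5` with `25` dividing the index. -/
theorem five_false (hidx : 25 ∣ (centralizer ({t} : Set G)).index) : False := by
  haveI : Fact (Nat.Prime 5) := ⟨by norm_num⟩
  haveI := Fintype.ofFinite F
  haveI : CharP F 5 := charP_of_card_eq_prime (by rwa [← Nat.card_eq_fintype_card])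
  have hone : S.ι (xp 1) ≠ 1 := fun h => by
    rw [← map_one S.ι, ← xp_zero] at h
    exact one_ne_zero (S.ι_xp_injective h)
  set a₀ := S.ι (xp 1) with ha₀
  have ha₀X : a₀ ∈ S.X := S.mem_X.2 ⟨1, rfl⟩
  -- a Sylow subgroup containing `E`
  have hE : IsPGroup 5 S.EXY := IsPGroup.of_card (n := 2) (by rw [S.card_EXY hA, h5]; norm_num)
  obtain ⟨P, hEP⟩ := hE.exists_le_sylow
  have hP125 : 5 ^ 3 ∣ Nat.card P := P.pow_dvd_card_of_pow_dvd_card (by
    obtain ⟨m, hm⟩ := hidx
    rw [S.card_G, h5, hm]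
    exact ⟨(5 + 1) * Nat.card S.D * m, by ring⟩)
  haveI hPnt : Nontrivial (P : Subgroup G) := by
    rw [← Finite.one_lt_card_iff_nontrivial]
    have := Nat.le_of_dvd Nat.card_pos hP125
    omega
  haveI := P.isPGroup'.center_nontrivial
  obtain ⟨⟨⟨z, hzP⟩, hzc⟩, hz1⟩ := exists_ne (1 : Subgroup.center (P : Subgroup G))
  have hz1' : z ≠ 1 := fun h => hz1 (Subtype.ext (Subtype.ext h))
  have hzcomm : ∀ a ∈ (P : Subgroup G), Commute a z := fun a ha =>
    congrArg Subtype.val (mem_center_iff.1 hzc ⟨a, ha⟩)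
  -- a conjugate of `z` in `X` is impossible
  have hbig : ∀ h : G, h * z * h⁻¹ ∈ S.X → False := by
    intro h hh
    have hQp : IsPGroup 5 ↥((P : Subgroup G).map (MulAut.conj h).toMonoidHom) := P.isPGroup'.map _
    have hle : (P : Subgroup G).map (MulAut.conj h).toMonoidHom ≤
        centralizer ({h * z * h⁻¹} : Set G) := by
      rintro _ ⟨a, ha, rfl⟩
      exact mem_centralizer_singleton_iff.2 ((hzcomm a ha).map (MulAut.conj h)).eq
    have := (S.le_core_and_dvd hA hT hB h5 hh (fun e => hz1' (conj_eq_one_iff.1 e)) hQp hle).2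
    rw [card_map_of_injective (MulAut.conj h).injective] at this
    have := Nat.le_of_dvd (by norm_num) (hP125.trans this)
    omega
  -- `z` lies in `E`
  have hzE : z ∈ S.EXY := by
    set Q := (P : Subgroup G) ⊓ centralizer ({a₀} : Set G) with hQ
    have hQp : IsPGroup 5 Q := P.isPGroup'.to_le inf_le_left
    have hEQ : S.EXY ≤ Q := le_inf hEP fun e he => by
      obtain ⟨x, hx, y, hy, rfl⟩ := S.mem_EXY hA he
      obtain ⟨i, rfl⟩ := S.mem_X.1 hx
      refine mem_centralizer_singleton_iff.2 (Commute.mul_left ?_ (S.comm_XY hA ha₀X hy).symm).eq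
      show S.ι (xp i) * S.ι (xp 1) = S.ι (xp 1) * S.ι (xp i)
      rw [← map_mul, ← map_mul, xp_mul, xp_mul, add_comm]
    have heq : S.EXY = Q := eq_of_le_of_card_ge hEQ (by
      rw [S.card_EXY hA, h5]
      exact Nat.le_of_dvd (by norm_num)
        (S.le_core_and_dvd hA hT hB h5 ha₀X hone hQp inf_le_right).2)
    rw [heq]
    exact ⟨hzP, mem_centralizer_singleton_iff.2
      (hzcomm a₀ (hEP (mem_sup_left ha₀X))).symm.eq⟩
  obtain ⟨a, ha, b, hb, hab⟩ := S.mem_EXY hA hzE
  by_cases hb1 : b = 1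
  · exact hbig 1 (by rw [hab, hb1]; simpa using ha)
  by_cases ha1 : a = 1
  · refine hbig S.g⁻¹ ?_
    obtain ⟨b', hb', rfl⟩ := S.mem_Y.1 hb
    rw [hab, ha1, one_mul, inv_inv, show S.g⁻¹ * (S.g * b' * S.g⁻¹) * S.g = b' by group]
    exact hb'
  -- the torus moves `z` to an element centralised by `ra`
  set b₀ := ra S * a₀ * (ra S)⁻¹ with hb₀
  have hb₀Y : b₀ ∈ S.Y := S.map_ra_eq ▸ ⟨a₀, ha₀X, rfl⟩
  have hb₀1 : b₀ ≠ 1 := fun h => hone (conj_eq_one_iff.1 h)
  have hne : ∀ (d : G) {c : G}, c ≠ 1 → d * c * d⁻¹ ≠ 1 := fun d c hc h =>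
    hc (conj_eq_one_iff.1 h)
  let f : S.D → ((S.X : Set G) \ {1} : Set G) × ((S.Y : Set G) \ {1} : Set G) := fun d =>
    (⟨(d : G) * a₀ * (d : G)⁻¹, S.D_conj_X d.2 ha₀X, hne d hone⟩,
      ⟨(d : G) * b₀ * (d : G)⁻¹, S.D_conj_Y d.2 hb₀Y, hne d hb₀1⟩)
  have hinj : Function.Injective f := by
    rintro ⟨d, hd⟩ ⟨d', hd'⟩ h
    have h1 : d * a₀ * d⁻¹ = d' * a₀ * d'⁻¹ := congrArg (fun p => (p.1 : G)) h
    have h2 : d * b₀ * d⁻¹ = d' * b₀ * d'⁻¹ := congrArg (fun p => (p.2 : G)) h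
    set c := d'⁻¹ * d with hc
    have hcD : c ∈ S.D := mul_mem (inv_mem hd') hd
    have hca : Commute c a₀ := mul_inv_eq_iff_eq_mul.1 (by
      rw [hc, show d'⁻¹ * d * a₀ * (d'⁻¹ * d)⁻¹ = d'⁻¹ * (d * a₀ * d⁻¹) * d' by group, h1]
      group)
    have hcb : Commute c b₀ := mul_inv_eq_iff_eq_mul.1 (by
      rw [hc, show d'⁻¹ * d * b₀ * (d'⁻¹ * d)⁻¹ = d'⁻¹ * (d * b₀ * d⁻¹) * d' by group, h2]
      group)
    have hcS : c ∈ S.Sc := S.mem_Sc_of_commute hcD ha₀X hone hca
    obtain ⟨b', hb', hbe⟩ := S.mem_Y.1 hb₀Y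
    set c' := S.g⁻¹ * c * S.g with hc'
    have hc'S : c' ∈ S.Sc := by
      refine S.mem_Sc_of_commute ?_ hb' (fun h => hb₀1 (by rw [← hbe, h]; group)) ?_
      · rw [← S.g_conj_D, hc', show S.g * (S.g⁻¹ * c * S.g) * S.g⁻¹ = c by group]
        exact hcD
      · rw [← hbe] at hcb
        have := hcb.map (MulAut.conj S.g⁻¹)
        simp only [MulAut.conj_apply, inv_inv] at this
        rwa [show S.g⁻¹ * (S.g * b' * S.g⁻¹) * S.g = b' by group] at this
    have hnot : ∀ w ∈ S.Sc, w * w = 1 → S.g⁻¹ * w * S.g ∈ S.Sc → w = 1 := by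
      intro w hw hw2 hw'
      by_contra hw1
      have h1 := S.eq_t_of_invol ha₀X hone (S.commute_Sc hw)
        (S.Sc_central hw (S.X_commute ha₀X)) hw2 hw1
      subst h1
      rw [S.g_rinv_t] at hw'
      exact S.u_ne_t (S.eq_t_of_invol ha₀X hone (S.commute_Sc hw')
        (S.Sc_central hw' (S.X_commute ha₀X)) S.u_mul_self S.u_ne_one)
    have hsq : c * c = 1 := hnot _ (mul_mem hcS hcS) (by
      rw [← pow_two, ← pow_two, ← pow_mul]; exact S.scalar_four hA hT hB h5 hcS) (by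
      rw [show S.g⁻¹ * (c * c) * S.g = c' * c' by rw [hc']; group]
      exact mul_mem hc'S hc'S)
    exact Subtype.ext (inv_mul_eq_one.1 (hnot _ hcS hsq hc'S)).symm
  have hD16 : Nat.card S.D = 16 := by
    have h := S.card_D_mul
    have hker : S.ι.ker = ⊥ := (MonoidHom.ker_eq_bot_iff _).2 (S.ι_injective_five hA hT hB h5)
    rw [hker, Subgroup.card_bot, mul_one, h5] at h
    exact h
  have hcardR : ∀ R : Subgroup G, Nat.card R = 5 → Nat.card ((R : Set G) \ {1} : Set G) = 4 := by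
    intro R hR
    rw [Nat.card_coe_set_eq, Set.ncard_diff_singleton_of_mem (one_mem R), ← Nat.card_coe_set_eq]
    exact (congrArg (· - 1) hR)
  have hbij : Function.Bijective f := (Nat.bijective_iff_injective_and_card f).2 ⟨hinj, by
    rw [hD16, Nat.card_prod, hcardR _ (S.card_X.trans h5), hcardR _ (S.card_Y.trans h5)]⟩
  obtain ⟨⟨d, hd⟩, hdf⟩ := hbij.2 (⟨a, ha, ha1⟩, ⟨b, hb, hb1⟩)
  have hd1 : d * a₀ * d⁻¹ = a := congrArg (fun p => (p.1 : G)) hdf
  have hd2 : d * b₀ * d⁻¹ = b := congrArg (fun p => (p.2 : G)) hdf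
  have hw : Commute (a₀ * b₀) (ra S) := by
    refine (mul_inv_eq_iff_eq_mul.1 ?_ : ra S * (a₀ * b₀) = a₀ * b₀ * ra S).symm
    rw [show ra S * (a₀ * b₀) * (ra S)⁻¹ = (ra S * a₀ * (ra S)⁻¹) * (ra S * b₀ * (ra S)⁻¹) by group,
      ← hb₀, hb₀, show ra S * (ra S * a₀ * (ra S)⁻¹) * (ra S)⁻¹
        = (ra S * ra S) * a₀ * (ra S * ra S)⁻¹ by group, H26.LThree.ra_sq, one_mul, inv_one,
      mul_one, ← hb₀]
    exact (S.comm_XY hA ha₀X hb₀Y).symm.eq
  have hzw : Commute z (d * ra S * d⁻¹) := by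
    have := hw.map (MulAut.conj d)
    simp only [MulAut.conj_apply] at this
    rwa [show d * (a₀ * b₀) * d⁻¹ = (d * a₀ * d⁻¹) * (d * b₀ * d⁻¹) by group, hd1, hd2,
      ← hab] at this
  have hra : orderOf (d * ra S * d⁻¹) = 2 := by
    rw [← MulAut.conj_apply, MulEquiv.orderOf_eq]
    exact orderOf_eq_prime (by rw [pow_two, H26.LThree.ra_sq]) fun e => by
      have := H26.LThree.ra_t S
      rw [e, one_mul, inv_one, mul_one] at this
      exact S.u_ne_t this.symm
  obtain ⟨n, hn⟩ := P.isPGroup' ⟨z, hzP⟩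
  obtain ⟨h, hh⟩ := H26.LThree.root_elt S (p := 5) (n := 1) le_rfl (by rw [h5, pow_one]) hra hzw.eq
    ⟨n, congrArg Subtype.val hn⟩
  exact hbig h hh

end Setting

end Cfsg.Agent.H35.Semi
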