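import Mathlib.Topology.Compactification.OnePoint.ProjectiveLine
import Mathlib.GroupTheory.GroupAction.Quotient
import Mathlib.FieldTheory.Finite.Basic
import Mathlib.Algebra.CharP.Lemmas

/-!
# Root subgroups, the split torus and odd subgroups of `GL₂(F)`

An odd order subgroup of `GL₂(F)` normalised by the split torus, or containing a root subgroup,
fixes one of the two standard points of the projective line.
-/

set_option autoImplicit false
set_option linter.unusedSectionVars false
set_option linter.unusedSimpArgs false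

namespace Cfsg.Agent.H35.Semi

open Matrix

variable {F : Type*} [Field F]

/-- `diag (a, b)` -/
def tor (a b : Fˣ) : GL (Fin 2) F :=
  ⟨!![(a : F), 0; 0, b], !![((a⁻¹ : Fˣ) : F), 0; 0, ((b⁻¹ : Fˣ) : F)],
    by simp [Matrix.one_fin_two], by simp [Matrix.one_fin_two]⟩

/-- the upper root element -/
def xp (x : F) : GL (Fin 2) F :=
  ⟨!![1, x; 0, 1], !![1, -x; 0, 1], by simp [Matrix.one_fin_two],
    by simp [Matrix.one_fin_two]⟩

/-- the lower root element -/
def xm (x : F) : GL (Fin 2) F :=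
  ⟨!![1, 0; x, 1], !![1, 0; -x, 1], by simp [Matrix.one_fin_two],
    by simp [Matrix.one_fin_two]⟩

/-- the swap -/
def swap : GL (Fin 2) F :=
  ⟨!![0, 1; 1, 0], !![0, 1; 1, 0], by simp [Matrix.one_fin_two], by simp [Matrix.one_fin_two]⟩

@[simp] theorem coe_tor (a b : Fˣ) :
    (tor a b : Matrix (Fin 2) (Fin 2) F) = !![(a : F), 0; 0, b] := rfl

@[simp] theorem coe_xp (x : F) : (xp x : Matrix (Fin 2) (Fin 2) F) = !![1, x; 0, 1] := rfl

@[simp] theorem coe_xm (x : F) : (xm x : Matrix (Fin 2) (Fin 2) F) = !![1, 0; x, 1] := rfl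

@[simp] theorem coe_swap : ((swap : GL (Fin 2) F) : Matrix (Fin 2) (Fin 2) F) = !![0, 1; 1, 0] :=
  rfl

theorem gl_ext {M N : GL (Fin 2) F} (h00 : M.1 0 0 = N.1 0 0) (h01 : M.1 0 1 = N.1 0 1)
    (h10 : M.1 1 0 = N.1 1 0) (h11 : M.1 1 1 = N.1 1 1) : M = N := by
  refine Units.ext (Matrix.ext fun i j => ?_)
  fin_cases i <;> fin_cases j <;> assumption

theorem xp_mul (x y : F) : xp x * xp y = xp (x + y) := by
  refine Units.ext ?_
  simp [add_comm]

theorem xm_mul (x y : F) : xm x * xm y = xm (x + y) := by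
  refine Units.ext ?_
  simp [add_comm]

theorem xp_zero : xp (0 : F) = 1 := by
  refine Units.ext ?_
  simp [Matrix.one_fin_two]

theorem xm_zero : xm (0 : F) = 1 := by
  refine Units.ext ?_
  simp [Matrix.one_fin_two]

theorem xp_inv (x : F) : (xp x)⁻¹ = xp (-x) := by
  refine inv_eq_of_mul_eq_one_right ?_
  rw [xp_mul, add_neg_cancel, xp_zero]

theorem xm_inv (x : F) : (xm x)⁻¹ = xm (-x) := by
  refine inv_eq_of_mul_eq_one_right ?_
  rw [xm_mul, add_neg_cancel, xm_zero]

theorem xp_pow (x : F) (n : ℕ) : xp x ^ n = xp ((n : F) * x) := by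
  induction n with
  | zero => simp [xp_zero]
  | succ n ih => rw [pow_succ, ih, xp_mul]; push_cast; ring_nf

theorem xp_injective : Function.Injective (xp : F → GL (Fin 2) F) := fun x y h => by
  have := congrArg (fun M : GL (Fin 2) F => (M : Matrix (Fin 2) (Fin 2) F) 0 1) h
  simpa using this

theorem xp_eq_one_iff {x : F} : xp x = 1 ↔ x = 0 :=
  ⟨fun h => xp_injective (h.trans xp_zero.symm), fun h => h ▸ xp_zero⟩

theorem tor_mul (a b c d : Fˣ) : tor a b * tor c d = tor (a * c) (b * d) := by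
  refine Units.ext ?_
  simp

theorem tor_inv (a b : Fˣ) : (tor a b)⁻¹ = tor a⁻¹ b⁻¹ := by
  refine inv_eq_of_mul_eq_one_right ?_
  rw [tor_mul, mul_inv_cancel, mul_inv_cancel]
  refine Units.ext ?_
  simp [Matrix.one_fin_two]

theorem tor_conj_xp (a b : Fˣ) (x : F) :
    tor a b * xp x * (tor a b)⁻¹ = xp ((a : F) * x * ((b⁻¹ : Fˣ) : F)) := by
  rw [tor_inv]
  refine Units.ext ?_
  simp

theorem tor_conj_xm (a b : Fˣ) (x : F) :
    tor a b * xm x * (tor a b)⁻¹ = xm ((b : F) * x * ((a⁻¹ : Fˣ) : F)) := by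
  rw [tor_inv]
  refine Units.ext ?_
  simp

theorem swap_mul_self : (swap : GL (Fin 2) F) * swap = 1 := by
  refine Units.ext ?_
  simp [Matrix.one_fin_two]

theorem swap_inv : (swap : GL (Fin 2) F)⁻¹ = swap :=
  inv_eq_of_mul_eq_one_right swap_mul_self

theorem swap_conj_xp (x : F) : swap * xp x * swap⁻¹ = xm x := by
  rw [swap_inv]
  refine Units.ext ?_
  simp

theorem swap_conj_tor (a b : Fˣ) : swap * tor a b * swap⁻¹ = tor b a := by
  rw [swap_inv]
  refine Units.ext ?_
  simp

theorem xp_xm_xp : xp (1 : F) * xm (-1) * xp 1 * (xp (1 : F) * xm (-1) * xp 1) = tor (-1) (-1) := by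
  refine Units.ext ?_
  simp

/-- An element commuting with a nontrivial root element is upper triangular with equal diagonal. -/
theorem commute_xp {M : GL (Fin 2) F} {x : F} (hx : x ≠ 0) (h : M * xp x = xp x * M) :
    ∃ (a : Fˣ) (y : F), M = tor a a * xp y := by
  have h0 := congrArg (fun N : GL (Fin 2) F => (N : Matrix (Fin 2) (Fin 2) F) 0 0) h
  have h1 := congrArg (fun N : GL (Fin 2) F => (N : Matrix (Fin 2) (Fin 2) F) 0 1) h
  simp [Matrix.mul_apply, Fin.sum_univ_two] at h0 h1
  have h10 : M.1 1 0 = 0 := h0.resolve_left hx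
  have h11 : M.1 1 1 = M.1 0 0 := by
    have e : x * (M.1 1 1 - M.1 0 0) = 0 := by linear_combination (-1 : F) * h1
    exact sub_eq_zero.1 ((mul_eq_zero.1 e).resolve_left hx)
  have hne : M.1 0 0 ≠ 0 := fun e => by
    have := M.det_ne_zero
    rw [Matrix.det_fin_two, h10, e] at this
    simp at this
  refine ⟨Units.mk0 _ hne, M.1 0 1 / M.1 0 0, gl_ext ?_ ?_ ?_ ?_⟩ <;>
    simp [h10, h11, mul_div_cancel₀ _ hne]

/-- An element commuting with a torus element with distinct entries is diagonal. -/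
theorem commute_tor {M : GL (Fin 2) F} {a b : Fˣ} (hab : a ≠ b) (h : M * tor a b = tor a b * M) :
    ∃ c d : Fˣ, M = tor c d := by
  have hne : (a : F) - b ≠ 0 := sub_ne_zero.2 fun e => hab (Units.ext e)
  have h0 := congrArg (fun N : GL (Fin 2) F => (N : Matrix (Fin 2) (Fin 2) F) 0 1) h
  have h1 := congrArg (fun N : GL (Fin 2) F => (N : Matrix (Fin 2) (Fin 2) F) 1 0) h
  simp [Matrix.mul_apply, Fin.sum_univ_two] at h0 h1
  have h01 : M.1 0 1 = 0 := by
    have e : ((a : F) - b) * M.1 0 1 = 0 := by linear_combination (-1 : F) * h0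
    exact (mul_eq_zero.1 e).resolve_left hne
  have h10 : M.1 1 0 = 0 := by
    have e : ((a : F) - b) * M.1 1 0 = 0 := by linear_combination h1
    exact (mul_eq_zero.1 e).resolve_left hne
  have hd := M.det_ne_zero
  rw [Matrix.det_fin_two, h01, h10] at hd
  simp at hd
  exact ⟨Units.mk0 _ hd.1, Units.mk0 _ hd.2, gl_ext (by simp) (by simp [h01]) (by simp [h10])
    (by simp)⟩

/-! ### Odd subgroups -/

section Line

variable [Finite F] [DecidableEq F]

open OnePoint

theorem odd_orbit (K : Subgroup (GL (Fin 2) F)) (hK : Odd (Nat.card K)) (z : OnePoint F) :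
    Odd (MulAction.orbit K z).ncard := by
  refine Odd.of_dvd_nat hK ?_
  rw [← MulAction.index_stabilizer]
  exact (MulAction.stabilizer K z).index_dvd_card

theorem smul_infty_eq {M : GL (Fin 2) F} : M • (∞ : OnePoint F) = ∞ ↔ M.1 1 0 = 0 :=
  OnePoint.smul_infty_eq_self_iff

theorem smul_zero_eq {M : GL (Fin 2) F} :
    M • ((0 : F) : OnePoint F) = ((0 : F) : OnePoint F) ↔ M.1 0 1 = 0 := by
  rw [OnePoint.smul_some_eq_ite]
  by_cases h : M.1 1 1 = 0
  · simp only [mul_zero, zero_add, h, if_true]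
    refine ⟨fun e => (OnePoint.infty_ne_coe _ e).elim, fun e => ?_⟩
    exact absurd M.det_ne_zero (by rw [Matrix.det_fin_two, e, h]; simp)
  · simp [h, OnePoint.coe_eq_coe]

theorem card_onePoint : Nat.card (OnePoint F) = Nat.card F + 1 := by
  haveI := Fintype.ofFinite F
  rw [show OnePoint F = Option F from rfl, Nat.card_eq_fintype_card, Nat.card_eq_fintype_card,
    Fintype.card_option]

/-- An odd order subgroup containing a root subgroup is upper triangular. -/
theorem upper_of_root_le (hq : Odd (Nat.card F)) {K : Subgroup (GL (Fin 2) F)}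
    (hK : Odd (Nat.card K))
    (h : ∀ x : F, xp x ∈ K) : ∀ M ∈ K, M.1 1 0 = 0 := by
  intro M hM
  by_contra hne
  have hmem : (MulAction.orbit K (∞ : OnePoint F)) = Set.univ := by
    refine Set.eq_univ_of_forall fun z => ?_
    induction z using OnePoint.rec with
    | infty => exact MulAction.mem_orbit_self _
    | coe y =>
      refine ⟨⟨xp (y - M.1 0 0 / M.1 1 0) * M, mul_mem (h _) hM⟩, ?_⟩
      show (xp (y - M.1 0 0 / M.1 1 0) * M) • (∞ : OnePoint F) = _
      rw [mul_smul, OnePoint.smul_infty_eq_ite, if_neg hne, OnePoint.smul_some_eq_ite]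
      simp
  have := odd_orbit K hK (∞ : OnePoint F)
  rw [hmem, Set.ncard_univ] at this
  rw [card_onePoint] at this
  exact Nat.not_even_iff_odd.2 this (hq.add_one)

/-- An odd order subgroup normalised by the split torus is triangular. -/
theorem triangular_of_torus (hq : Odd (Nat.card F)) {K : Subgroup (GL (Fin 2) F)}
    (hK : Odd (Nat.card K))
    (h : ∀ a : Fˣ, ∀ M ∈ K, tor a 1 * M * (tor a 1)⁻¹ ∈ K) :
    (∀ M ∈ K, M.1 1 0 = 0) ∨ (∀ M ∈ K, M.1 0 1 = 0) := by
  -- the orbit of a fixed point of the torus is invariant under the torus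
  have hinv : ∀ z : OnePoint F, (∀ a : Fˣ, tor a 1 • z = z) → ∀ a : Fˣ,
      ∀ y ∈ MulAction.orbit K z, tor a 1 • y ∈ MulAction.orbit K z := by
    rintro z hz a _ ⟨⟨M, hM⟩, rfl⟩
    refine ⟨⟨_, h a M hM⟩, ?_⟩
    show (tor a 1 * M * (tor a 1)⁻¹) • z = tor a 1 • M • z
    rw [mul_smul, mul_smul, inv_smul_eq_iff.2 (hz a).symm]
  have hfixInf : ∀ a : Fˣ, tor a 1 • (∞ : OnePoint F) = ∞ := fun a => smul_infty_eq.2 (by simp)
  have hfixZero : ∀ a : Fˣ, tor a 1 • ((0 : F) : OnePoint F) = ((0 : F) : OnePoint F) :=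
    fun a => smul_zero_eq.2 (by simp)
  have hscale : ∀ (a : Fˣ) (y : F),
      tor a 1 • ((y : F) : OnePoint F) = (((a : F) * y : F) : OnePoint F) := fun a y => by
    rw [OnePoint.smul_some_eq_ite]
    simp
  by_contra hc
  simp only [not_or, not_forall] at hc
  obtain ⟨⟨M, hM, hM'⟩, N, hN, hN'⟩ := hc
  -- both orbits contain a point off `{0, ∞}` or the other fixed point
  have key : ∀ (y : F) (z : OnePoint F), (∀ a : Fˣ, tor a 1 • z = z) → y ≠ 0 →
      ((y : F) : OnePoint F) ∈ MulAction.orbit K z → ∀ x : F, x ≠ 0 →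
      ((x : F) : OnePoint F) ∈ MulAction.orbit K z := by
    intro y z hz hy hyz x hx
    have := hinv z hz (Units.mk0 (x / y) (div_ne_zero hx hy)) _ hyz
    rw [hscale] at this
    simpa [div_mul_cancel₀ _ hy] using this
  have htwo : ∀ z z' : OnePoint F, z ≠ z' → MulAction.orbit K z ≠ {z, z'} := by
    intro z z' hzz he
    have := odd_orbit K hK z
    rw [he, Set.ncard_pair hzz] at this
    exact Nat.not_even_iff_odd.2 this even_two
  -- some point other than `0, ∞` is in the orbit of `∞`
  obtain ⟨y, hy0, hy⟩ : ∃ y : F, y ≠ 0 ∧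
      ((y : F) : OnePoint F) ∈ MulAction.orbit K (∞ : OnePoint F) := by
    by_contra hno
    push Not at hno
    refine htwo ∞ ((0 : F) : OnePoint F) (OnePoint.infty_ne_coe 0) (Set.ext fun w => ?_)
    have h0 : ((0 : F) : OnePoint F) ∈ MulAction.orbit K (∞ : OnePoint F) := by
      have h1 : M • (∞ : OnePoint F) ∈ MulAction.orbit K (∞ : OnePoint F) := ⟨⟨M, hM⟩, rfl⟩
      rw [OnePoint.smul_infty_eq_ite, if_neg hM'] at h1
      by_cases hz : M.1 0 0 / M.1 1 0 = 0
      · rwa [hz] at h1
      · exact absurd h1 (hno _ hz)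
    induction w using OnePoint.rec with
    | infty => simp [MulAction.mem_orbit_self]
    | coe x =>
      by_cases hx : x = 0
      · subst hx; simp [h0]
      · simp [hno x hx, OnePoint.coe_eq_coe, hx]
  obtain ⟨y', hy0', hy'⟩ : ∃ y : F, y ≠ 0 ∧
      ((y : F) : OnePoint F) ∈ MulAction.orbit K ((0 : F) : OnePoint F) := by
    by_contra hno
    push Not at hno
    refine htwo ((0 : F) : OnePoint F) ∞ (OnePoint.infty_ne_coe 0).symm (Set.ext fun w => ?_)
    have h0 : (∞ : OnePoint F) ∈ MulAction.orbit K ((0 : F) : OnePoint F) := by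
      have h1 : N • ((0 : F) : OnePoint F) ∈ MulAction.orbit K ((0 : F) : OnePoint F) :=
        ⟨⟨N, hN⟩, rfl⟩
      rw [OnePoint.smul_some_eq_ite] at h1
      split_ifs at h1 with hz
      · exact h1
      · refine absurd h1 (hno _ (div_ne_zero ?_ hz))
        simpa using hN'
    induction w using OnePoint.rec with
    | infty => simp [h0]
    | coe x =>
      by_cases hx : x = 0
      · subst hx; simp [MulAction.mem_orbit_self]
      · simp [hno x hx, OnePoint.coe_eq_coe, hx]
  -- so `0` and `∞` share the orbit, which is everything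
  have hmem : MulAction.orbit K (∞ : OnePoint F) = Set.univ := by
    refine Set.eq_univ_of_forall fun w => ?_
    induction w using OnePoint.rec with
    | infty => exact MulAction.mem_orbit_self _
    | coe x =>
      by_cases hx : x = 0
      · subst hx
        rw [MulAction.orbit_eq_iff.2 (key y ∞ hfixInf hy0 hy y' hy0') |>.symm,
          MulAction.orbit_eq_iff.2 hy']
        exact MulAction.mem_orbit_self _
      · exact key y ∞ hfixInf hy0 hy x hx
  have := odd_orbit K hK (∞ : OnePoint F)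
  rw [hmem, Set.ncard_univ] at this
  rw [card_onePoint] at this
  exact Nat.not_even_iff_odd.2 this (hq.add_one)

end Line

end Cfsg.Agent.H35.Semi
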