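import Cfsg.Agent.H35.Semi.CentRoot
import Cfsg.Agent.H26.LThree.Frame

/-!
# The data of the matching configuration

One-sided configurations reduce, after possibly twisting the coordinates of `C(t)` by
`M ↦ det(M)⁻¹ M`, to `X` commuting with its partner in `C(u)` only; then the centraliser facts
needed to refute a matching hold.
-/

set_option autoImplicit false
set_option linter.unusedSectionVars false
set_option linter.unusedSimpArgs false
set_option linter.style.haveILetI false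
set_option linter.unusedVariables false

namespace Cfsg.Agent.H35.Semi

open Subgroup
open Cfsg.Agent.H26.LThree (ra rb)

universe u v

/-- The automorphism `M ↦ det(M)⁻¹ M` of `GL₂(F)`. -/
def detTwist {F : Type v} [Field F] : GL (Fin 2) F →* GL (Fin 2) F where
  toFun M := tor (Matrix.GeneralLinearGroup.det M)⁻¹ (Matrix.GeneralLinearGroup.det M)⁻¹ * M
  map_one' := by
    rw [map_one, inv_one, mul_one]
    exact map_one (torHom (F := F))
  map_mul' M N := by
    rw [map_mul, _root_.mul_inv_rev, mul_comm (Matrix.GeneralLinearGroup.det N)⁻¹, ← tor_mul]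
    set δ := tor (Matrix.GeneralLinearGroup.det M)⁻¹ (Matrix.GeneralLinearGroup.det M)⁻¹
    set ε := tor (Matrix.GeneralLinearGroup.det N)⁻¹ (Matrix.GeneralLinearGroup.det N)⁻¹ with hε
    have h : ε * M = M * ε := (mem_center_iff.1 (hε ▸ scalar_mem_center _) M).symm
    rw [mul_assoc δ M, ← mul_assoc M ε, ← h, mul_assoc δ, mul_assoc ε]

theorem detTwist_detTwist {F : Type v} [Field F] (M : GL (Fin 2) F) : detTwist (detTwist M) = M := by
  show tor _ _ * (tor (Matrix.GeneralLinearGroup.det M)⁻¹ (Matrix.GeneralLinearGroup.det M)⁻¹ * M)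
    = M
  simp only [detTwist, MonoidHom.coe_mk, OneHom.coe_mk, map_mul, det_tor]
  rw [← mul_assoc, tor_mul]
  set d := Matrix.GeneralLinearGroup.det M
  rw [show (d⁻¹ * d⁻¹ * d)⁻¹ * d⁻¹ = 1 by group]
  exact (congrArg (· * M) (map_one (torHom (F := F)))).trans (one_mul M)

namespace Setting

variable {G : Type u} [Group G] [Finite G] {F : Type v} [Field F] [Finite F] {t : G}
variable (S : Setting G F t)
include S

/-- The same setting in the coordinates twisted by `detTwist`. -/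
def twist : Setting G F t where
  ι := S.ι.comp detTwist
  simple := S.simple
  odd := S.odd
  invol := S.invol
  range_iff g := ⟨fun ⟨M, h⟩ => h ▸ S.commute_image _, fun h => by
    obtain ⟨M, hM⟩ := S.exists_preimage h
    exact ⟨detTwist M, by rw [MonoidHom.comp_apply, detTwist_detTwist, hM]⟩⟩
  ker_center M hM := by
    have h : detTwist M ∈ Subgroup.center (GL (Fin 2) F) := S.ker_center hM
    have h1 : M = (tor (Matrix.GeneralLinearGroup.det M)⁻¹
        (Matrix.GeneralLinearGroup.det M)⁻¹)⁻¹ * detTwist M :=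
      (inv_mul_cancel_left _ _).symm
    rw [h1]
    exact mul_mem (inv_mem (scalar_mem_center _)) h
  ker_odd := by
    have hinj : Function.Injective (detTwist (F := F)) := fun a b e => by
      rw [← detTwist_detTwist a, e, detTwist_detTwist]
    rw [← card_map_of_injective hinj]
    refine Odd.of_dvd_nat S.ker_odd (card_dvd_of_le ?_)
    rintro _ ⟨M, hM, rfl⟩
    exact hM

theorem twist_xp (a : F) : S.twist.ι (xp a) = S.ι (xp a) := by
  refine congrArg S.ι ?_
  show tor _ _ * xp a = xp a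
  rw [show Matrix.GeneralLinearGroup.det (xp a) = 1 from Units.ext (by simp [Matrix.det_fin_two]),
    inv_one]
  exact (congrArg (· * xp a) (map_one (torHom (F := F)))).trans (one_mul _)

theorem twist_X : S.twist.X = S.X := by
  ext g
  rw [mem_X, mem_X]
  simp only [S.twist_xp]

theorem twist_u : S.twist.u = t * S.u := by
  rw [S.tu_eq]
  refine congrArg S.ι ?_
  show tor _ _ * tor (-1) 1 = tor 1 (-1)
  rw [det_tor, mul_one, inv_neg, inv_one, tor_mul, neg_mul_neg, one_mul, mul_one]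

theorem comm_twist {h : G} : S.twist.Comm h S.twist.X ↔ S.Comm h S.X := by
  rw [Comm, Comm, S.twist_X]

/-! ### Translations -/

theorem comm_iff {h : G} :
    S.Comm h S.X ↔ ∀ x ∈ S.X, ∀ y ∈ S.X, Commute x (h * y * h⁻¹) :=
  ⟨fun hc x hx y hy => hc y hy x hx, fun hc y hy x hx => hc x hx y hy⟩

theorem comm_X'_iff {h : G} : S.Comm h S.X' ↔ S.Comm (h * S.ι swap) S.X := by
  constructor
  · intro hc x hx
    rw [_root_.mul_inv_rev, S.swap_inv', show h * S.ι swap * x * (S.ι swap * h⁻¹)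
      = h * (S.ι swap * x * S.ι swap) * h⁻¹ by group]
    exact hc _ (S.X'_conj_w hx)
  · intro hc b hb
    have := hc _ (S.X_conj_w hb)
    rwa [_root_.mul_inv_rev, S.swap_inv', show h * S.ι swap * (S.ι swap * b * S.ι swap)
      * (S.ι swap * h⁻¹) = h * ((S.ι swap * S.ι swap) * b * (S.ι swap * S.ι swap)) * h⁻¹ by group,
      S.swap_mul_swap, one_mul, mul_one] at this

theorem comm_g_iff : S.Comm S.g S.X ↔ S.Comm S.r S.X' := by
  rw [comm_X'_iff, r, mul_assoc, S.swap_mul_swap, mul_one]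

theorem rinvw_t : (S.r⁻¹ * S.ι swap) * t * (S.r⁻¹ * S.ι swap)⁻¹ = t * S.u := by
  rw [show S.r⁻¹ * S.ι swap * t * (S.r⁻¹ * S.ι swap)⁻¹
    = S.r⁻¹ * (S.ι swap * t * (S.ι swap)⁻¹) * S.r by group, S.swap_commute.eq,
    mul_inv_cancel_right, S.rinv_t]

theorem rinvw_u : (S.r⁻¹ * S.ι swap) * S.u * (S.r⁻¹ * S.ι swap)⁻¹ = S.u := by
  rw [show S.r⁻¹ * S.ι swap * S.u * (S.r⁻¹ * S.ι swap)⁻¹
    = S.r⁻¹ * (S.ι swap * S.u * (S.ι swap)⁻¹) * S.r by group, S.swap_conj_u,
    show S.r⁻¹ * (t * S.u) * S.r = (S.r⁻¹ * t * S.r) * (S.r⁻¹ * S.u * S.r) by group, S.rinv_t,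
    S.rinv_u, mul_assoc, S.commute_u_t.eq, ← mul_assoc, S.mul_self, one_mul]

/-- `X` commutes with its partner in `C(u)` iff it commutes with its image under `ra`. -/
theorem comm_g_iff_ra : S.Comm S.g S.X ↔ S.Comm (ra S) S.X :=
  ⟨S.comm_of_act (by rw [S.g_t, H26.LThree.ra_t]) (by rw [S.g_u, H26.LThree.ra_u]),
    S.comm_of_act (by rw [S.g_t, H26.LThree.ra_t]) (by rw [S.g_u, H26.LThree.ra_u])⟩

/-- `X` commutes with its partner in `C(t u)` iff it commutes with its image under `rb`. -/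
theorem comm_rinvw_iff_rb : S.Comm (S.r⁻¹ * S.ι swap) S.X ↔ S.Comm (rb S) S.X :=
  ⟨S.comm_of_act (by rw [S.rinvw_t, H26.LThree.rb_t]) (by rw [S.rinvw_u, H26.LThree.rb_u]),
    S.comm_of_act (by rw [S.rinvw_t, H26.LThree.rb_t]) (by rw [S.rinvw_u, H26.LThree.rb_u])⟩

theorem map_ra_eq : S.X.map (MulAut.conj (ra S)).toMonoidHom = S.Y := by
  refine le_antisymm ?_ ?_
  · rintro _ ⟨x, hx, rfl⟩
    obtain ⟨x', hx', he⟩ := S.exists_conj_eq (a := ra S) (b := S.g)
      (by rw [S.g_t, H26.LThree.ra_t]) (by rw [S.g_u, H26.LThree.ra_u]) hx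
    exact S.mem_Y.2 ⟨x', hx', he.symm⟩
  · rintro _ ⟨x, hx, rfl⟩
    obtain ⟨x', hx', he⟩ := S.exists_conj_eq (a := S.g) (b := ra S)
      (by rw [S.g_t, H26.LThree.ra_t]) (by rw [S.g_u, H26.LThree.ra_u]) hx
    exact ⟨x', hx', he.symm⟩

/-- One-sided configurations: after a possible twist, `X` commutes with its partner in `C(u)`
only. -/
theorem exists_one_sided (hT : ¬ S.Comm S.r S.X)
    (hor : S.Comm S.r S.X' ∨ S.Comm S.r⁻¹ S.X')
    (hboth : ¬ (S.Comm S.r S.X' ∧ S.Comm S.r⁻¹ S.X')) :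
    ∃ S' : Setting G F t, S'.X = S.X ∧ S'.Comm S'.g S'.X ∧ ¬ S'.Comm S'.r S'.X ∧
      ¬ S'.Comm (S'.r⁻¹ * S'.ι swap) S'.X := by
  rcases hor with hA | hB
  · exact ⟨S, rfl, S.comm_g_iff.2 hA, hT, fun h => hboth ⟨hA, S.comm_X'_iff.2 h⟩⟩
  have hA : ¬ S.Comm S.g S.X := fun h => hboth ⟨S.comm_g_iff.1 h, hB⟩
  set S' := S.twist with hS'
  have hu' : S'.u = t * S.u := S.twist_u
  have htu : t * (t * S.u) = S.u := by rw [← mul_assoc, S.mul_self, one_mul]
  have key : ∀ a : G, a * S.u * a⁻¹ = (a * t * a⁻¹) * (a * S'.u * a⁻¹) := fun a => by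
    rw [hu', show a * t * a⁻¹ * (a * (t * S.u) * a⁻¹) = a * (t * (t * S.u)) * a⁻¹ by group, htu]
  refine ⟨S', S.twist_X, S.comm_twist.2 ?_, fun h => hT ?_, fun h => hA ?_⟩
  · refine S.comm_of_act ?_ ?_ (S.comm_X'_iff.1 hB)
    · rw [S.rinvw_t, S'.g_t, hu']
    · rw [S.rinvw_u, key, S'.g_t, S'.g_u, hu', mul_assoc, S.commute_u_t.eq, htu]
  · have h1 : S.Comm S.r⁻¹ S.X := by
      refine S.comm_of_act ?_ ?_ (S.comm_twist.1 h)
      · rw [inv_inv, S.rinv_t, S'.r_t, hu']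
      · rw [inv_inv, S.rinv_u, key, S'.r_t, S'.r_u, hu', htu, mul_assoc, S.u_mul_self, mul_one]
    simpa using S.comm_symm h1
  · refine S.comm_of_act ?_ ?_ (S.comm_twist.1 h)
    · rw [S.g_t, S'.rinvw_t, hu', htu]
    · rw [S.g_u, key, S'.rinvw_t, S'.rinvw_u, hu', htu,
        show S.u * (t * S.u) = (S.u * t) * S.u by rw [mul_assoc], S.commute_u_t.eq, mul_assoc,
        S.u_mul_self, mul_one]

/-! ### The centraliser facts -/

section Matching

variable (hA : S.Comm S.g S.X) (hT : ¬ S.Comm S.r S.X)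
  (hB : ¬ S.Comm (S.r⁻¹ * S.ι swap) S.X) (h7 : 7 ≤ Nat.card F)
include hA hT hB h7

theorem Sc_normalizes {z : G} (hz : z ∈ S.Sc) : z ∈ normalizer (S.EXY : Set G) :=
  S.D_le_normalizer_EXY hA (S.Sc_le_D hz)

/-- `p`-elements centralising a root element lie in `E`. -/
theorem p_mem_EXY {p n : ℕ} (hp : p.Prime) (hn : 1 ≤ n) (hq : Nat.card F = p ^ n) {x g : G}
    (hx : x ∈ S.X) (hx1 : x ≠ 1) (hg : g * x = x * g) (hgp : ∃ k : ℕ, g ^ p ^ k = 1) :
    g ∈ S.EXY := by
  obtain ⟨e, he, z, hz, rfl⟩ := S.centralizer_le hA hT hB h7 hx hx1 hg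
  obtain ⟨k, hk⟩ := hgp
  have key : ∀ m : ℕ, ∃ e' ∈ S.EXY, (e * z) ^ m = e' * z ^ m := by
    intro m
    induction m with
    | zero => exact ⟨1, one_mem _, by simp⟩
    | succ m ih =>
      obtain ⟨e', he', hm⟩ := ih
      refine ⟨e' * (z ^ m * e * (z ^ m)⁻¹),
        mul_mem he' ((mem_normalizer_iff.1 (pow_mem (S.Sc_normalizes hA hT hB h7 hz) m) e).1 he), ?_⟩
      rw [pow_succ, hm, pow_succ]; group
  obtain ⟨e', he', hpow⟩ := key (p ^ k)
  rw [hk] at hpow
  have hzk : z ^ p ^ k = 1 := S.EXY_inf_Sc hA hT hB (by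
    rw [← inv_eq_of_mul_eq_one_right hpow.symm]; exact inv_mem he') (pow_mem hz _)
  have hzD : orderOf z ∣ Nat.card S.D :=
    (Subgroup.orderOf_coe (⟨z, S.Sc_le_D hz⟩ : S.D)).symm ▸ orderOf_dvd_natCard _
  have hz1 : z = 1 := by
    obtain ⟨j, -, hj⟩ := (Nat.dvd_prime_pow hp).1 (orderOf_dvd_of_pow_eq_one hzk)
    rcases Nat.eq_zero_or_pos j with rfl | hjpos
    · rw [pow_zero] at hj
      exact orderOf_eq_one_iff.1 hj
    · exact absurd (((dvd_pow_self p hjpos.ne').trans (hj ▸ hzD)).mul_left _)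
        (S.coprime_pred hp hn hq)
  rw [hz1, mul_one]
  exact he

/-- `t` is the only involution of `C(t u)` centralising a root element. -/
theorem invol_eq {x i : G} (hx : x ∈ S.X) (hx1 : x ≠ 1) (hi : orderOf i = 2)
    (hix : i * x = x * i) (hiv : i * (t * S.u) = (t * S.u) * i) : i = t := by
  obtain ⟨e, he, z, hz, rfl⟩ := S.centralizer_le hA hT hB h7 hx hx1 hix
  have hzv : Commute z (t * S.u) :=
    (S.mem_D_iff.1 (S.Sc_le_D hz)).1.mul_right (S.mem_D_iff.1 (S.Sc_le_D hz)).2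
  have h1 : (t * S.u) * (e * z) * (t * S.u)⁻¹ = e⁻¹ * z := by
    rw [show (t * S.u) * (e * z) * (t * S.u)⁻¹
      = ((t * S.u) * e * (t * S.u)⁻¹) * ((t * S.u) * z * (t * S.u)⁻¹) by group, S.tu_inv_E hA he,
      hzv.symm.eq, mul_inv_cancel_right]
  rw [← hiv, mul_inv_cancel_right] at h1
  have he1 : e = 1 := H26.LThree.eq_one_of_sq_of_odd (S.odd_EXY hA) he (by
    nth_rw 2 [mul_right_cancel h1]; rw [mul_inv_cancel])
  subst he1
  rw [one_mul] at hi hix ⊢
  refine S.eq_t_of_invol hx hx1 (S.commute_Sc hz) hix ?_ fun h => ?_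
  · rw [← pow_two, ← hi, pow_orderOf_eq_one]
  · rw [h, orderOf_one] at hi; omega

/-- What centralises `E` and is inverted by `t u` lies in `E`. -/
theorem inverted_cent_mem {m : G} (hm : m ∈ centralizer (S.EXY : Set G))
    (hinv : t * S.u * m * (t * S.u)⁻¹ = m⁻¹) : m ∈ S.EXY := by
  have hone : S.ι (xp 1) ≠ 1 := fun h => by
    rw [← map_one S.ι, ← xp_zero] at h
    exact one_ne_zero (S.ι_xp_injective h)
  have hx : S.ι (xp 1) ∈ S.X := S.mem_X.2 ⟨1, rfl⟩
  obtain ⟨e, he, z, hz, rfl⟩ := S.centralizer_le hA hT hB h7 hx hone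
    (show Commute m (S.ι (xp 1)) from (hm _ (mem_sup_left hx)).symm)
  have hzv : Commute z (t * S.u) :=
    (S.mem_D_iff.1 (S.Sc_le_D hz)).1.mul_right (S.mem_D_iff.1 (S.Sc_le_D hz)).2
  have hzE : ∀ f ∈ S.EXY, Commute z f := by
    intro f hf
    have h1 : Commute (e * z) f := (hm f hf).symm
    have h2 : Commute e f := by
      have h3 := S.tu_inv_E hA (mul_mem he hf)
      rw [show t * S.u * (e * f) * (t * S.u)⁻¹ = (t * S.u * e * (t * S.u)⁻¹)
        * (t * S.u * f * (t * S.u)⁻¹) by group, S.tu_inv_E hA he, S.tu_inv_E hA hf,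
        ← _root_.mul_inv_rev] at h3
      exact (inv_injective h3).symm
    have := h2.inv_left.mul_left h1
    rwa [inv_mul_cancel_left] at this
  have h1 : (t * S.u) * (e * z) * (t * S.u)⁻¹ = e⁻¹ * z := by
    rw [show (t * S.u) * (e * z) * (t * S.u)⁻¹
      = ((t * S.u) * e * (t * S.u)⁻¹) * ((t * S.u) * z * (t * S.u)⁻¹) by group, S.tu_inv_E hA he,
      hzv.symm.eq, mul_inv_cancel_right]
  rw [h1, _root_.mul_inv_rev, (hzE _ (inv_mem he)).inv_left.eq] at hinv
  have hz2 : z * z = 1 := by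
    nth_rw 2 [mul_left_cancel hinv]; rw [mul_inv_cancel]
  by_cases hz1 : z = 1
  · rw [hz1, mul_one]; exact he
  exfalso
  have hzt : z = t := S.eq_t_of_invol hx hone (S.commute_Sc hz) (hzE _ (mem_sup_left hx)) hz2 hz1
  have hy : S.g * S.ι (xp 1) * S.g⁻¹ ∈ S.Y := S.mem_Y.2 ⟨_, hx, rfl⟩
  have h2 := S.t_inv_Y hy
  have hty := hzE _ (mem_sup_right hy)
  rw [hzt] at hty
  rw [hty.eq, mul_inv_cancel_right] at h2
  have h3 := H26.LThree.eq_one_of_sq_of_odd (by rw [S.card_Y]; exact S.odd) hy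
    (by nth_rw 2 [h2]; rw [mul_inv_cancel])
  exact hone (conj_eq_one_iff.1 h3)

/-- The matching data in the coordinates of `H26.LThree`. -/
theorem match_data {p n : ℕ} (hp : p.Prime) (hn : 1 ≤ n) (hq : Nat.card F = p ^ n) :
    (∀ x ∈ S.X, ∀ y ∈ S.X, Commute x (ra S * y * (ra S)⁻¹)) ∧
    (∀ x ∈ S.X, x ≠ 1 → ∀ g : G, g * x = x * g → (∃ k : ℕ, g ^ p ^ k = 1) →
      g ∈ S.X ⊔ S.X.map (MulAut.conj (ra S)).toMonoidHom) ∧
    (∀ x ∈ S.X, x ≠ 1 → ∀ i : G, orderOf i = 2 → i * x = x * i →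
      i * (t * S.u) = (t * S.u) * i → i = t) ∧
    (∀ m ∈ centralizer ((S.X ⊔ S.X.map (MulAut.conj (ra S)).toMonoidHom : Subgroup G) : Set G),
      t * S.u * m * (t * S.u)⁻¹ = m⁻¹ → m ∈ S.X ⊔ S.X.map (MulAut.conj (ra S)).toMonoidHom) := by
  rw [S.map_ra_eq]
  exact ⟨S.comm_iff.1 (S.comm_g_iff_ra.1 hA),
    fun x hx hx1 g hg hgp => S.p_mem_EXY hA hT hB h7 hp hn hq hx hx1 hg hgp,
    fun x hx hx1 i hi hix hiv => S.invol_eq hA hT hB h7 hx hx1 hi hix hiv,
    fun m hm hinv => S.inverted_cent_mem hA hT hB h7 hm hinv⟩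

end Matching

end Setting

end Cfsg.Agent.H35.Semi
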