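import Cfsg.Agent.H35.Semi.Setting
import Cfsg.Agent.Coprime.Generation
import Mathlib.GroupTheory.SpecificGroups.KleinFour
import Mathlib.LinearAlgebra.Matrix.GeneralLinearGroup.Card

/-!
# Centralisers of root elements in the setting of S0484

For a nonempty set `s` of nontrivial elements of the root group `X` the centraliser is the product
of its odd core and its part in `C(t)`, and the odd core is generated by its intersections with the
centralisers of `t`, `u`, `t u`.  For `s = X` each of the latter two lies in the scalars or shows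
that a root group commutes with `X`.
-/

set_option autoImplicit false
set_option linter.unusedSectionVars false
set_option linter.unusedSimpArgs false
set_option linter.style.haveILetI false
set_option linter.unusedVariables false

namespace Cfsg.Agent.H35.Semi

open Matrix Subgroup

universe u v

/-- The odd core of a subgroup, as a subgroup of the ambient group. -/
def coreOf {G : Type u} [Group G] (M : Subgroup G) : Subgroup G :=
  (Cfsg.oddCore ↥M).map M.subtype

theorem coreOf_le {G : Type u} [Group G] (M : Subgroup G) : coreOf M ≤ M := map_subtype_le _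

theorem coreOf_odd {G : Type u} [Group G] [Finite G] (M : Subgroup G) :
    Odd (Nat.card (coreOf M)) := by
  rw [coreOf, card_map_of_injective M.subtype_injective]
  exact Cores.odd_card_oddCore

/-- What normalises `M` normalises its odd core. -/
theorem conj_mem_coreOf {G : Type u} [Group G] [Finite G] {M : Subgroup G} {h : G}
    (hh : h ∈ normalizer (M : Set G)) {o : G} (ho : o ∈ coreOf M) : h * o * h⁻¹ ∈ coreOf M := by
  set N := (coreOf M).map (MulAut.conj h).toMonoidHom with hN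
  haveI hnor : (Cfsg.oddCore ↥M).Normal := inferInstanceAs (Cfsg.pPrimeCore 2 ↥M).Normal
  have hNM : N ≤ M := by
    rintro _ ⟨x, hx, rfl⟩
    exact (mem_normalizer_iff.1 hh x).1 (coreOf_le M hx)
  haveI : (N.subgroupOf M).Normal := ⟨by
    rintro ⟨n, hn⟩ hnN ⟨m, hm⟩
    obtain ⟨⟨x, hx⟩, hxO, hxn⟩ : ∃ x : ↥M, x ∈ Cfsg.oddCore ↥M ∧ h * x * h⁻¹ = n := by
      obtain ⟨y, ⟨x, hx, rfl⟩, rfl⟩ := mem_subgroupOf.1 hnN
      exact ⟨x, hx, rfl⟩
    have hm' : h⁻¹ * m * h ∈ M := (mem_normalizer_iff.1 hh _).2 (by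
      rw [show h * (h⁻¹ * m * h) * h⁻¹ = m by group]; exact hm)
    refine mem_subgroupOf.2 ⟨_, ⟨_, hnor.conj_mem _ hxO ⟨_, hm'⟩, rfl⟩, ?_⟩
    show h * (h⁻¹ * m * h * x * (h⁻¹ * m * h)⁻¹) * h⁻¹ = m * n * m⁻¹
    rw [← hxn]; group⟩
  have hcard : Odd (Nat.card (N.subgroupOf M)) := by
    rw [Nat.card_congr (subgroupOfEquivOfLe hNM).toEquiv, hN,
      card_map_of_injective (MulAut.conj h).injective]
    exact coreOf_odd M
  have hmem : h * o * h⁻¹ ∈ N := ⟨o, ho, rfl⟩
  exact ⟨⟨_, hNM hmem⟩, Cores.le_oddCore hcard (mem_subgroupOf.2 hmem), rfl⟩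

namespace Setting

variable {G : Type u} [Group G] [Finite G] {F : Type v} [Field F] [Finite F] {t : G}
variable (S : Setting G F t)
include S

/-- the scalars -/
def Sc : Subgroup G := (S.ι.comp (torHom.comp ((MonoidHom.id Fˣ).prod (MonoidHom.id Fˣ)))).range

theorem mem_Sc {g : G} : g ∈ S.Sc ↔ ∃ a : Fˣ, S.ι (tor a a) = g :=
  ⟨fun ⟨a, h⟩ => ⟨a, h⟩, fun ⟨a, h⟩ => ⟨a, h⟩⟩

theorem Sc_central {g c : G} (hg : g ∈ S.Sc) (hc : Commute c t) : Commute g c := by
  obtain ⟨a, rfl⟩ := S.mem_Sc.1 hg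
  obtain ⟨M, rfl⟩ := S.exists_preimage hc
  have hcm : Commute (tor a a) M := (mem_center_iff.1 (scalar_mem_center a) M).symm
  exact hcm.map S.ι

theorem commute_Sc {g : G} (hg : g ∈ S.Sc) : Commute g t := by
  obtain ⟨a, rfl⟩ := S.mem_Sc.1 hg
  exact S.commute_image _

theorem X_commute {x : G} (hx : x ∈ S.X) : Commute x t := by
  obtain ⟨a, rfl⟩ := S.mem_X.1 hx
  exact S.commute_image _

theorem X'_commute {x : G} (hx : x ∈ S.X') : Commute x t := by
  obtain ⟨a, rfl⟩ := S.mem_X'.1 hx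
  exact S.commute_image _

theorem u_inv_X {x : G} (hx : x ∈ S.X) : S.u * x * S.u⁻¹ = x⁻¹ := by
  obtain ⟨a, rfl⟩ := S.mem_X.1 hx
  rw [u, ← map_inv, ← map_mul, ← map_mul, ← map_inv, tor_conj_xp, xp_inv]
  refine congrArg (fun z => S.ι (xp z)) ?_
  simp

theorem u_inv_X' {x : G} (hx : x ∈ S.X') : S.u * x * S.u⁻¹ = x⁻¹ := by
  obtain ⟨a, rfl⟩ := S.mem_X'.1 hx
  rw [u, ← map_inv, ← map_mul, ← map_mul, ← map_inv, tor_conj_xm, xm_inv]
  refine congrArg (fun z => S.ι (xm z)) ?_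
  simp

theorem tu_inv_X {x : G} (hx : x ∈ S.X) : t * S.u * x * (t * S.u)⁻¹ = x⁻¹ := by
  rw [show t * S.u * x * (t * S.u)⁻¹ = t * (S.u * x * S.u⁻¹) * t⁻¹ by group, S.u_inv_X hx,
    ((S.X_commute hx).inv_left).symm.eq, mul_inv_cancel_right]

/-- The torus normalises the root group. -/
theorem D_conj_X {d x : G} (hd : d ∈ S.D) (hx : x ∈ S.X) : d * x * d⁻¹ ∈ S.X := by
  obtain ⟨a, b, rfl⟩ := S.mem_D.1 hd
  obtain ⟨c, rfl⟩ := S.mem_X.1 hx
  rw [← map_inv, ← map_mul, ← map_mul, tor_conj_xp]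
  exact S.mem_X.2 ⟨_, rfl⟩

theorem D_conj_X' {d x : G} (hd : d ∈ S.D) (hx : x ∈ S.X') : d * x * d⁻¹ ∈ S.X' := by
  obtain ⟨a, b, rfl⟩ := S.mem_D.1 hd
  obtain ⟨c, rfl⟩ := S.mem_X'.1 hx
  rw [← map_inv, ← map_mul, ← map_mul, tor_conj_xm]
  exact S.mem_X'.2 ⟨_, rfl⟩

theorem swap_conj_D {d : G} (hd : d ∈ S.D) : S.ι swap * d * (S.ι swap)⁻¹ ∈ S.D := by
  obtain ⟨a, b, rfl⟩ := S.mem_D.1 hd
  rw [← map_inv, ← map_mul, ← map_mul, swap_conj_tor]
  exact S.mem_D.2 ⟨_, _, rfl⟩

theorem swap_mul_swap : S.ι swap * S.ι swap = 1 := by rw [← map_mul, swap_mul_self, map_one]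

theorem swap_commute : Commute (S.ι swap) t := S.commute_image _

/-- `X` and the scalars meet trivially. -/
theorem xp_mem_Sc {a : F} (h : S.ι (xp a) ∈ S.Sc) : a = 0 := by
  obtain ⟨c, hc⟩ := S.mem_Sc.1 h
  obtain ⟨e, he, -⟩ := S.ker_scalar (M := (tor c c)⁻¹ * xp a) (by
    rw [map_mul, map_inv, hc, inv_mul_cancel])
  have h1 : xp a = tor (c * e) (c * e) := by rw [← tor_mul, ← he, mul_inv_cancel_left]
  have := congrArg (fun M : GL (Fin 2) F => M.1 0 1) h1
  simpa using this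

theorem X_inf_Sc {x : G} (hx : x ∈ S.X) (hx' : x ∈ S.Sc) : x = 1 := by
  obtain ⟨a, rfl⟩ := S.mem_X.1 hx
  rw [S.xp_mem_Sc hx', xp_zero, map_one]

theorem eq_one_of_sq {x : G} (hx : x ∈ S.X) (h : x * x = 1) : x = 1 := by
  obtain ⟨a, rfl⟩ := S.mem_X.1 hx
  have h0 : S.ι (xp (a + a)) = S.ι (xp 0) := by rw [← xp_mul, map_mul, h, xp_zero, map_one]
  have := S.ι_xp_injective h0
  rw [← two_mul] at this
  rw [(mul_eq_zero.1 this).resolve_left S.two_ne, xp_zero, map_one]

theorem X_inf_X' {x : G} (hx : x ∈ S.X) (hx' : x ∈ S.X') : x = 1 := by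
  obtain ⟨a, rfl⟩ := S.mem_X.1 hx
  obtain ⟨b, hb⟩ := S.mem_X'.1 hx'
  have h := S.ι_injective_det hb (by
    refine Units.ext ?_
    simp [Matrix.det_fin_two])
  have h' := congrArg (fun M : GL (Fin 2) F => M.1 0 1) h
  have ha : a = 0 := by simpa using h'.symm
  rw [ha, xp_zero, map_one]

/-- `C(t) ∩ C(x)` is scalars times the root group. -/
theorem exists_of_commute {x c : G} (hx : x ∈ S.X) (hx1 : x ≠ 1) (hct : Commute c t)
    (hcx : Commute c x) : ∃ z ∈ S.Sc, ∃ y ∈ S.X, c = z * y := by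
  obtain ⟨a, rfl⟩ := S.mem_X.1 hx
  obtain ⟨M, rfl⟩ := S.exists_preimage hct
  have ha : a ≠ 0 := fun e => hx1 (by rw [e, xp_zero, map_one])
  obtain ⟨b, y, rfl⟩ := commute_xp ha (S.commute_lift hcx).eq
  exact ⟨_, S.mem_Sc.2 ⟨b, rfl⟩, _, S.mem_X.2 ⟨y, rfl⟩, map_mul _ _ _⟩

/-- `t` is the only involution of `C(t) ∩ C(x)`. -/
theorem eq_t_of_invol {x s : G} (hx : x ∈ S.X) (hx1 : x ≠ 1) (hst : Commute s t)
    (hsx : Commute s x) (hs : s * s = 1) (hs1 : s ≠ 1) : s = t := by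
  obtain ⟨z, hz, y, hy, rfl⟩ := S.exists_of_commute hx hx1 hst hsx
  have hc : Commute z y := S.Sc_central hz (S.X_commute hy)
  rw [Commute.mul_mul_mul_comm hc.symm] at hs
  have hy2 : y * y ∈ S.Sc := by
    rw [eq_inv_of_mul_eq_one_right hs]; exact inv_mem (mul_mem hz hz)
  have hy1 := S.eq_one_of_sq hy (S.X_inf_Sc (mul_mem hy hy) hy2)
  subst hy1
  rw [mul_one, mul_one] at hs
  rw [mul_one] at hs1 ⊢
  rcases S.invol_cases hs hs1 (S.commute_Sc hz) with e | ⟨c, hc, e⟩
  · exact e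
  · exfalso
    have hu : z = S.u := by
      have h1 := (S.Sc_central hz hc).symm
      rw [← e] at h1
      have h2 : c * (c * S.u * c⁻¹) = c * S.u * c⁻¹ * c := h1.eq
      rw [inv_mul_cancel_right] at h2
      rw [← e, mul_left_cancel h2]
    have h3 := S.swap_conj_u
    rw [← hu, (S.Sc_central hz S.swap_commute).symm.eq, mul_inv_cancel_right] at h3
    exact S.ne_one (mul_right_cancel (h3.symm.trans (one_mul z).symm))

/-! ### The centraliser of a set of root elements -/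

variable {s : Set G}

theorem u_mem_normalizer (hs : ∀ x ∈ s, x ∈ S.X) :
    S.u ∈ normalizer ((centralizer s : Subgroup G) : Set G) := by
  have hu : S.u⁻¹ = S.u := inv_eq_of_mul_eq_one_right S.u_mul_self
  have key : ∀ m ∈ centralizer s, S.u * m * S.u⁻¹ ∈ centralizer s := by
    intro m hm x hx
    have h1 : Commute x m := hm x hx
    have h2 := h1.inv_left.map (MulAut.conj S.u)
    simp only [MulAut.conj_apply] at h2
    rw [show S.u * x⁻¹ * S.u⁻¹ = (S.u * x * S.u⁻¹)⁻¹ by group, S.u_inv_X (hs x hx), inv_inv] at h2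
    exact h2.eq
  refine mem_normalizer_iff.2 fun m => ⟨key m, fun h => ?_⟩
  have := key _ h
  rw [hu] at this
  rwa [show S.u * (S.u * m * S.u) * S.u = (S.u * S.u) * m * (S.u * S.u) by group, S.u_mul_self,
    one_mul, mul_one] at this

theorem t_mem_centralizer (hs : ∀ x ∈ s, x ∈ S.X) : t ∈ centralizer s :=
  fun x hx => (S.X_commute (hs x hx)).eq

/-- `C(s) = O(C(s)) (C(t) ∩ C(s))`. -/
theorem exists_decomp (hs : ∀ x ∈ s, x ∈ S.X) {x₀ : G} (hx₀ : x₀ ∈ s) (hx₀1 : x₀ ≠ 1)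
    {m : G} (hm : m ∈ centralizer s) :
    ∃ o ∈ coreOf (centralizer s), ∃ c ∈ centralizer s, Commute c t ∧ m = o * c := by
  set M := centralizer s with hM
  set tM : ↥M := ⟨t, S.t_mem_centralizer hs⟩ with htM
  have ho2 : orderOf tM = 2 := by rw [← Subgroup.orderOf_coe, htM]; exact S.invol
  have hiso : Cfsg.IsIsolated tM := fun g hcm => by
    refine Subtype.ext (S.eq_t_of_invol (hs _ hx₀) hx₀1 ?_ ?_ ?_ ?_)
    · exact (congrArg Subtype.val hcm.eq).symm
    · exact ((g * tM * g⁻¹).2 x₀ hx₀).symm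
    · show (g : G) * t * (g : G)⁻¹ * ((g : G) * t * (g : G)⁻¹) = 1
      rw [show (g : G) * t * (g : G)⁻¹ * ((g : G) * t * (g : G)⁻¹) = g * (t * t) * (g : G)⁻¹ by
        group, S.mul_self, mul_one, mul_inv_cancel]
    · exact fun e => S.ne_one (conj_eq_one_iff.1 e)
  haveI : Fact (Nat.Prime 2) := ⟨Nat.prime_two⟩
  obtain ⟨P, hP⟩ := (IsPGroup.of_card (n := 1) (by
    rw [Nat.card_zpowers, ho2, pow_one]) : IsPGroup 2 (zpowers tM)).exists_le_sylow
  have h1 := Cores.glaubermanZStar P ho2 (hP (mem_zpowers tM))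
    (fun k hk => H61.eq_of_conj_mem hiso P.isPGroup' (hP (mem_zpowers tM)) hk) ⟨m, hm⟩
  -- `k = t m t⁻¹ m⁻¹` is inverted by `t`; take a square root
  set k := t * m * t⁻¹ * m⁻¹ with hk
  have hkO : k ∈ coreOf M := ⟨_, h1, rfl⟩
  have ht : t⁻¹ = t := inv_eq_of_mul_eq_one_right S.mul_self
  have htk : t * k * t⁻¹ = k⁻¹ := by
    rw [hk, show t * (t * m * t⁻¹ * m⁻¹) * t⁻¹ = (t * t) * m * t⁻¹ * m⁻¹ * t⁻¹ by group,
      S.mul_self, one_mul]
    simp only [_root_.mul_inv_rev, inv_inv, ht, mul_assoc]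
  obtain ⟨j, hj⟩ : Odd (orderOf k) :=
    Odd.of_dvd_nat (coreOf_odd M) (orderOf_dvd_natCard _ hkO)
  set o := k ^ j with ho
  have hoO : o ∈ coreOf M := pow_mem hkO _
  refine ⟨o, hoO, o⁻¹ * m, mul_mem (inv_mem (coreOf_le M hoO)) hm, mul_inv_eq_iff_eq_mul.1 ?_,
    (mul_inv_cancel_left _ _).symm⟩
  have hto : t * o * t⁻¹ = o⁻¹ := by
    rw [ho, ← conj_pow, htk, inv_pow]
  calc o⁻¹ * m * t * (o⁻¹ * m)⁻¹ = o⁻¹ * (m * t * m⁻¹) * o := by group
    _ = o⁻¹ * (k⁻¹ * t) * o := by rw [hk, show (t * m * t⁻¹ * m⁻¹)⁻¹ * t = m * t * m⁻¹ by group]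
    _ = o⁻¹ * k⁻¹ * (t * o * t⁻¹) * t := by group
    _ = (k ^ (2 * j + 1))⁻¹ * t := by
      rw [hto, ho]
      simp only [two_mul, pow_succ, pow_add, _root_.mul_inv_rev, mul_assoc]
      rw [← mul_assoc (k ^ j)⁻¹ k⁻¹, ← _root_.mul_inv_rev, ← pow_succ', pow_succ, _root_.mul_inv_rev, mul_assoc]
    _ = t := by rw [← hj, pow_orderOf_eq_one, inv_one, one_mul]

/-- The odd core is generated by its parts in `C(t)`, `C(u)`, `C(t u)`. -/
theorem core_le (hs : ∀ x ∈ s, x ∈ S.X) {L : Subgroup G}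
    (h1 : coreOf (centralizer s) ⊓ centralizer ({t} : Set G) ≤ L)
    (h2 : coreOf (centralizer s) ⊓ centralizer ({S.u} : Set G) ≤ L)
    (h3 : coreOf (centralizer s) ⊓ centralizer ({t * S.u} : Set G) ≤ L) :
    coreOf (centralizer s) ≤ L := by
  have htu : (t * S.u) * (t * S.u) = 1 := by
    rw [mul_assoc, ← mul_assoc S.u t, S.commute_u_t.eq, mul_assoc t S.u, S.u_mul_self, mul_one,
      S.mul_self]
  let U : Subgroup G :=
    { carrier := {g | g = 1 ∨ g = t ∨ g = S.u ∨ g = t * S.u}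
      one_mem' := Or.inl rfl
      mul_mem' := by
        have e1 : S.u * t = t * S.u := S.commute_u_t.eq
        have e2 : t * (t * S.u) = S.u := by rw [← mul_assoc, S.mul_self, one_mul]
        have e3 : t * S.u * t = S.u := by rw [mul_assoc, e1, e2]
        have e4 : S.u * (t * S.u) = t := by rw [← mul_assoc, e1, mul_assoc, S.u_mul_self, mul_one]
        have e5 : t * S.u * S.u = t := by rw [mul_assoc, S.u_mul_self, mul_one]
        rintro a b (rfl | rfl | rfl | rfl) (rfl | rfl | rfl | rfl) <;>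
          simp [S.mul_self, S.u_mul_self, e1, e2, e3, e4, e5, htu]
      inv_mem' := by
        rintro a (rfl | rfl | rfl | rfl)
        · exact Or.inl inv_one
        · exact Or.inr (Or.inl (inv_eq_of_mul_eq_one_right S.mul_self))
        · exact Or.inr (Or.inr (Or.inl (inv_eq_of_mul_eq_one_right S.u_mul_self)))
        · exact Or.inr (Or.inr (Or.inr (inv_eq_of_mul_eq_one_right htu))) }
  have hmem : ∀ g, g ∈ U ↔ g = 1 ∨ g = t ∨ g = S.u ∨ g = t * S.u := fun g => Iff.rfl
  have hsq : ∀ g ∈ U, g * g = 1 := fun g hg => by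
    rcases (hmem g).1 hg with rfl | rfl | rfl | rfl
    exacts [one_mul 1, S.mul_self, S.u_mul_self, htu]
  haveI : IsMulCommutative U := ⟨⟨fun a b => Subtype.ext (by
    show (a : G) * b = b * a
    have h := hsq _ (mul_mem a.2 b.2)
    rw [eq_inv_of_mul_eq_one_left h, _root_.mul_inv_rev, inv_eq_of_mul_eq_one_right (hsq _ b.2),
      inv_eq_of_mul_eq_one_right (hsq _ a.2)])⟩⟩
  have hp : IsPGroup 2 U := fun g => ⟨1, Subtype.ext (by
    show (g : G) ^ (2 ^ 1) = 1
    rw [pow_one, pow_two]; exact hsq _ g.2)⟩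
  have hnc : ¬ IsCyclic U := fun hc => by
    obtain ⟨⟨a, ha⟩, hga⟩ := IsCyclic.exists_generator (α := U)
    have hall : ∀ g ∈ U, g = 1 ∨ g = a := fun g hg => by
      obtain ⟨i, hi⟩ := mem_zpowers_iff.1 (hga ⟨g, hg⟩)
      have hi' : a ^ i = g := congrArg Subtype.val hi
      rcases Int.even_or_odd i with ⟨j, rfl⟩ | ⟨j, rfl⟩
      · left
        rw [← hi', ← two_mul, _root_.zpow_mul, show a ^ (2 : ℤ) = 1 by rw [zpow_two]; exact hsq a ha,
          _root_.one_zpow]
      · right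
        rw [← hi', _root_.zpow_add_one, _root_.zpow_mul,
          show a ^ (2 : ℤ) = 1 by rw [zpow_two]; exact hsq a ha, _root_.one_zpow, one_mul]
    have h1 := (hall t ((hmem t).2 (by simp))).resolve_left S.ne_one
    have h2 := (hall S.u ((hmem _).2 (by simp))).resolve_left S.u_ne_one
    exact S.u_ne_t (h2.trans h1.symm)
  have hnorm : U ≤ normalizer ((coreOf (centralizer s) : Subgroup G) : Set G) := by
    have key : ∀ h : G, h * h = 1 → h ∈ normalizer ((centralizer s : Subgroup G) : Set G) →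
        h ∈ normalizer ((coreOf (centralizer s) : Subgroup G) : Set G) := fun h hh hN => by
      refine mem_normalizer_iff.2 fun o => ⟨conj_mem_coreOf hN, fun ho => ?_⟩
      have := conj_mem_coreOf hN ho
      rwa [inv_eq_of_mul_eq_one_right hh, show h * (h * o * h) * h = (h * h) * o * (h * h) by group,
        hh, one_mul, mul_one] at this
    intro g hg
    have ht := le_normalizer (S.t_mem_centralizer hs)
    have hu := S.u_mem_normalizer hs
    refine key g (hsq g hg) ?_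
    rcases (hmem g).1 hg with rfl | rfl | rfl | rfl
    exacts [one_mem _, ht, hu, mul_mem ht hu]
  refine Coprime.le_of_centralizer_noncyclic_le (A := U) hnc hnorm ?_ ?_
  · obtain ⟨n, hn⟩ := IsPGroup.iff_card.1 hp
    rw [hn]
    exact Nat.Coprime.pow_left n (Nat.coprime_two_left.2 (coreOf_odd _))
  · intro a ha ha1
    rcases (hmem a).1 ha with rfl | rfl | rfl | rfl
    exacts [absurd rfl ha1, h1, h2, h3]

/-- The part in `C(t)` lies in scalars times `X`. -/
theorem core_t (hs : ∀ x ∈ s, x ∈ S.X) {x₀ : G} (hx₀ : x₀ ∈ s) (hx₀1 : x₀ ≠ 1) :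
    coreOf (centralizer s) ⊓ centralizer ({t} : Set G) ≤ S.Sc ⊔ S.X := by
  intro o ho
  obtain ⟨z, hz, y, hy, rfl⟩ := S.exists_of_commute (hs _ hx₀) hx₀1
    (mem_centralizer_singleton_iff.1 ho.2) ((coreOf_le _ ho.1) x₀ hx₀).symm
  exact mul_mem (mem_sup_left hz) (mem_sup_right hy)

theorem D_mem_normalizer {d : G} (hd : d ∈ S.D) :
    d ∈ normalizer ((centralizer (S.X : Set G) : Subgroup G) : Set G) := by
  have key : ∀ e ∈ S.D, ∀ m ∈ centralizer (S.X : Set G), e * m * e⁻¹ ∈ centralizer (S.X : Set G) := by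
    intro e he m hm x hx
    have h1 : Commute (e⁻¹ * x * e) m := hm _ (by
      have := S.D_conj_X (inv_mem he) hx
      rwa [inv_inv] at this)
    have h2 := h1.map (MulAut.conj e)
    simp only [MulAut.conj_apply] at h2
    rw [show e * (e⁻¹ * x * e) * e⁻¹ = x by group] at h2
    exact h2.eq
  refine mem_normalizer_iff.2 fun m => ⟨key d hd m, fun h => ?_⟩
  have := key _ (inv_mem hd) _ h
  rwa [show d⁻¹ * (d * m * d⁻¹) * d⁻¹⁻¹ = m by group] at this

/-- The parts in the centralisers of the other two involutions: scalars, or a commuting root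
group. -/
theorem core_cases (h : G) (hD : ∀ d, h * d * h⁻¹ ∈ S.D ↔ d ∈ S.D) :
    coreOf (centralizer (S.X : Set G)) ⊓ centralizer ({h * t * h⁻¹} : Set G) ≤ S.Sc ∨
      (∀ x ∈ S.X, h * x * h⁻¹ ∈ centralizer (S.X : Set G)) ∨
      (∀ x ∈ S.X', h * x * h⁻¹ ∈ centralizer (S.X : Set G)) := by
  classical
  set M := centralizer (S.X : Set G) with hM
  let ψ : GL (Fin 2) F →* G := (MulAut.conj h).toMonoidHom.comp S.ι
  have hψ : ∀ N, ψ N = h * S.ι N * h⁻¹ := fun N => rfl
  set K := (coreOf M).comap ψ with hK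
  have hKodd : Odd (Nat.card K) := by
    rw [← card_mul_index ((ψ.comp K.subtype).ker), index_ker]
    refine Odd.mul ?_ ?_
    · refine Odd.of_dvd_nat S.ker_odd ?_
      rw [← card_map_of_injective K.subtype_injective]
      refine card_dvd_of_le ?_
      rintro _ ⟨N, hN, rfl⟩
      exact conj_eq_one_iff.1 (show h * S.ι N.1 * h⁻¹ = 1 from hN)
    · refine Odd.of_dvd_nat (coreOf_odd M) (card_dvd_of_le ?_)
      rintro _ ⟨N, rfl⟩
      exact N.2
  have hinv : ∀ a b : Fˣ, ∀ N ∈ K, tor a b * N * (tor a b)⁻¹ ∈ K := fun a b N hN => by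
    show ψ _ ∈ coreOf M
    rw [map_mul, map_mul, map_inv]
    exact conj_mem_coreOf (S.D_mem_normalizer ((hD _).2 (S.mem_D.2 ⟨a, b, rfl⟩))) hN
  have hmem : ∀ o ∈ coreOf M ⊓ centralizer ({h * t * h⁻¹} : Set G), ∃ N ∈ K, ψ N = o := by
    intro o ho
    have h1 : Commute (h⁻¹ * o * h) t := by
      have := (show Commute o (h * t * h⁻¹) from mem_centralizer_singleton_iff.1 ho.2).map
        (MulAut.conj h⁻¹)
      simpa [mul_assoc] using this
    obtain ⟨N, hN⟩ := S.exists_preimage h1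
    have : ψ N = o := by rw [hψ, hN]; group
    exact ⟨N, by rw [hK, mem_comap, this]; exact ho.1, this⟩
  by_cases hdiag : ∀ N ∈ K, N.1 0 1 = 0 ∧ N.1 1 0 = 0
  · left
    intro o ho
    obtain ⟨N, hN, rfl⟩ := hmem o ho
    obtain ⟨h01, h10⟩ := hdiag N hN
    have hd := N.det_ne_zero
    rw [Matrix.det_fin_two, h01, h10] at hd
    simp at hd
    have hNeq : N = tor (Units.mk0 _ hd.1) (Units.mk0 _ hd.2) :=
      gl_ext (by simp) (by simp [h01]) (by simp [h10]) (by simp)
    have hψD : ψ N ∈ S.D := by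
      rw [hNeq]; exact (hD _).2 (S.mem_D.2 ⟨_, _, rfl⟩)
    obtain ⟨c, d, hcd⟩ := S.mem_D.1 hψD
    have hcomm : Commute (ψ N) (S.ι (xp 1)) :=
      ((coreOf_le M ho.1) _ (S.mem_X.2 ⟨1, rfl⟩)).symm
    rw [← hcd] at hcomm
    have h3 : tor c d * xp 1 * (tor c d)⁻¹ = xp 1 :=
      mul_inv_eq_iff_eq_mul.2 (S.commute_lift hcomm).eq
    rw [tor_conj_xp] at h3
    have h4 := xp_injective h3
    rw [mul_one, Units.mul_inv_eq_one] at h4
    exact S.mem_Sc.2 ⟨c, by rw [← hcd, Units.ext h4]⟩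
  have hle : ∀ N ∈ K, ψ N ∈ M := fun N hN => coreOf_le M hN
  rcases triangular_of_torus S.odd hKodd (fun a N hN => hinv a 1 N hN) with hup | hlow
  · right; left
    obtain ⟨N, hN, hb⟩ : ∃ N ∈ K, N.1 0 1 ≠ 0 := by
      by_contra hc
      push Not at hc
      exact hdiag fun N hN => ⟨hc N hN, hup N hN⟩
    have h10 := hup N hN
    have hd := N.det_ne_zero
    rw [Matrix.det_fin_two, h10] at hd
    simp at hd
    set y : F := -2 * N.1 0 1 / N.1 1 1 with hy
    have hy0 : y ≠ 0 := div_ne_zero (mul_ne_zero (neg_ne_zero.2 S.two_ne) hb) hd.2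
    have hN' : xp y ∈ K := by
      have h1 : tor (-1) 1 * N * (tor (-1) 1)⁻¹ = xp y * N := by
        rw [tor_inv]
        refine gl_ext ?_ ?_ ?_ ?_ <;>
          simp [Matrix.mul_apply, Matrix.vecMul, dotProduct, Fin.sum_univ_two, h10, hy, div_mul_cancel₀ _ hd.2]
        all_goals ring
      have := mul_mem (h1 ▸ hinv (-1) 1 N hN : xp y * N ∈ K) (inv_mem hN)
      rwa [mul_inv_cancel_right] at this
    intro x hx
    obtain ⟨c, rfl⟩ := S.mem_X.1 hx
    by_cases hc : c = 0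
    · rw [hc, xp_zero, map_one, mul_one, mul_inv_cancel]; exact one_mem _
    · refine hle (xp c) ?_
      have := hinv (Units.mk0 (c / y) (div_ne_zero hc hy0)) 1 _ hN'
      rw [tor_conj_xp] at this
      simpa [div_mul_cancel₀ _ hy0] using this
  · right; right
    obtain ⟨N, hN, hb⟩ : ∃ N ∈ K, N.1 1 0 ≠ 0 := by
      by_contra hc
      push Not at hc
      exact hdiag fun N hN => ⟨hlow N hN, hc N hN⟩
    have h01 := hlow N hN
    have hd := N.det_ne_zero
    rw [Matrix.det_fin_two, h01] at hd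
    simp at hd
    set y : F := -2 * N.1 1 0 / N.1 0 0 with hy
    have hy0 : y ≠ 0 := div_ne_zero (mul_ne_zero (neg_ne_zero.2 S.two_ne) hb) hd.1
    have hN' : xm y ∈ K := by
      have h1 : tor 1 (-1) * N * (tor 1 (-1))⁻¹ = xm y * N := by
        rw [tor_inv]
        refine gl_ext ?_ ?_ ?_ ?_ <;>
          simp [Matrix.mul_apply, Matrix.vecMul, dotProduct, Fin.sum_univ_two, h01, hy, div_mul_cancel₀ _ hd.1]
        all_goals ring
      have := mul_mem (h1 ▸ hinv 1 (-1) N hN : xm y * N ∈ K) (inv_mem hN)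
      rwa [mul_inv_cancel_right] at this
    intro x hx
    obtain ⟨c, rfl⟩ := S.mem_X'.1 hx
    by_cases hc : c = 0
    · rw [hc, xm_zero, map_one, mul_one, mul_inv_cancel]; exact one_mem _
    · refine hle (xm c) ?_
      have := hinv 1 (Units.mk0 (c / y) (div_ne_zero hc hy0)) _ hN'
      rw [tor_conj_xm] at this
      simpa [div_mul_cancel₀ _ hy0] using this

/-! ### Orders -/

theorem card_GL : Nat.card (GL (Fin 2) F) =
    Nat.card F * (Nat.card F - 1) * (Nat.card F - 1) * (Nat.card F + 1) := by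
  haveI := Fintype.ofFinite F
  rw [Matrix.card_GL_field, Fin.prod_univ_two]
  simp only [Fin.val_zero, Fin.val_one, pow_zero, pow_one, ← Nat.card_eq_fintype_card]
  have h1 : 1 ≤ Nat.card F := Nat.card_pos
  obtain ⟨k, hk⟩ : ∃ k, Nat.card F = k + 1 := ⟨Nat.card F - 1, by omega⟩
  rw [hk]
  have e1 : (k + 1) ^ 2 - 1 = k * (k + 2) := by
    rw [show (k + 1) ^ 2 = k * (k + 2) + 1 by ring, Nat.add_sub_cancel]
  have e2 : (k + 1) ^ 2 - (k + 1) = (k + 1) * k := by
    rw [show (k + 1) ^ 2 = (k + 1) * k + (k + 1) by ring, Nat.add_sub_cancel]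
  rw [e1, e2, Nat.add_sub_cancel]
  ring

theorem card_D_mul : Nat.card S.D * Nat.card S.ι.ker = (Nat.card F - 1) * (Nat.card F - 1) := by
  have h := card_mul_index (S.ι.comp (torHom (F := F))).ker
  rw [index_ker] at h
  have hk : Nat.card (S.ι.comp (torHom (F := F))).ker = Nat.card S.ι.ker := by
    have hinj : Function.Injective (torHom (F := F)) := fun x y e => by
      obtain ⟨h1, h2⟩ := tor_injective (a := x.1) (b := x.2) (c := y.1) (d := y.2) e
      exact Prod.ext h1 h2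
    rw [← card_map_of_injective hinj]
    congr 1
    congr 1
    ext M
    constructor
    · rintro ⟨p, hp, rfl⟩; exact hp
    · intro hM
      obtain ⟨a, rfl, -⟩ := S.ker_scalar hM
      exact ⟨(a, a), hM, rfl⟩
  rw [hk, Nat.card_prod, Nat.card_units, mul_comm] at h
  exact h

theorem card_centralizer :
    Nat.card (centralizer ({t} : Set G)) = Nat.card F * (Nat.card F + 1) * Nat.card S.D := by
  have hr : S.ι.range = centralizer ({t} : Set G) := by
    ext g
    rw [mem_centralizer_singleton_iff]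
    exact S.range_iff g
  have h := card_mul_index S.ι.ker
  rw [index_ker, hr, S.card_GL] at h
  have hpos : 0 < Nat.card S.ι.ker := Nat.card_pos
  refine Nat.eq_of_mul_eq_mul_left hpos (h.trans ?_)
  rw [show Nat.card S.ι.ker * (Nat.card F * (Nat.card F + 1) * Nat.card S.D)
    = Nat.card F * (Nat.card F + 1) * (Nat.card S.D * Nat.card S.ι.ker) by ring, S.card_D_mul]
  ring

end Setting

end Cfsg.Agent.H35.Semi
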