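import Cfsg.Agent.H35.Semi.GLRoots
import Cfsg.Agent.H61.Isolated
import Cfsg.Agent.Cores.GlaubermanZStar
import Cfsg.Agent.Cores.PCore
import Cfsg.Agent.H27.GLTwo

/-!
# The setting of S0484: a simple group with an involution centraliser `GL₂(q)/Z`

`ι : GL₂(F) →* G` has image `C(t)` and odd central kernel.  The three involutions `t`, `u`, `t u`
of the diagonal four group are conjugate, and some `g` exchanges `t` and `u`, normalising the
torus.
-/

set_option autoImplicit false
set_option linter.unusedSectionVars false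
set_option linter.unusedSimpArgs false
set_option linter.style.haveILetI false
set_option linter.unusedVariables false

namespace Cfsg.Agent.H35.Semi

open Matrix

universe u v

/-- the diagonal matrices -/
def torHom {F : Type*} [Field F] : Fˣ × Fˣ →* GL (Fin 2) F where
  toFun p := tor p.1 p.2
  map_one' := by refine Units.ext ?_; simp [Matrix.one_fin_two]
  map_mul' a b := (tor_mul _ _ _ _).symm

/-- the upper root homomorphism -/
def xpHom {F : Type*} [Field F] : Multiplicative F →* GL (Fin 2) F where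
  toFun a := xp a.toAdd
  map_one' := xp_zero
  map_mul' a b := (xp_mul _ _).symm

/-- the lower root homomorphism -/
def xmHom {F : Type*} [Field F] : Multiplicative F →* GL (Fin 2) F where
  toFun a := xm a.toAdd
  map_one' := xm_zero
  map_mul' a b := (xm_mul _ _).symm

theorem det_tor {F : Type*} [Field F] (a b : Fˣ) :
    GeneralLinearGroup.det (tor a b) = a * b := by
  refine Units.ext ?_
  simp [Matrix.det_fin_two]

theorem tor_injective {F : Type*} [Field F] {a b c d : Fˣ} (h : tor a b = tor c d) :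
    a = c ∧ b = d := by
  have h0 := congrArg (fun M : GL (Fin 2) F => M.1 0 0) h
  have h1 := congrArg (fun M : GL (Fin 2) F => M.1 1 1) h
  exact ⟨Units.ext (by simpa using h0), Units.ext (by simpa using h1)⟩

theorem scalar_mem_center {F : Type*} [Field F] (a : Fˣ) :
    tor a a ∈ Subgroup.center (GL (Fin 2) F) := by
  refine Subgroup.mem_center_iff.2 fun M => gl_ext ?_ ?_ ?_ ?_ <;>
    simp [Matrix.mul_apply, Fin.sum_univ_two, mul_comm]

/-- The hypotheses of S0484 as data. -/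
structure Setting (G : Type u) [Group G] (F : Type v) [Field F] (t : G) where
  /-- the map onto the centraliser -/
  ι : GL (Fin 2) F →* G
  simple : IsSimpleGroup G
  odd : Odd (Nat.card F)
  invol : orderOf t = 2
  range_iff : ∀ g : G, (∃ M, ι M = g) ↔ Commute g t
  ker_center : ι.ker ≤ Subgroup.center (GL (Fin 2) F)
  ker_odd : Odd (Nat.card ι.ker)

namespace Setting

variable {G : Type u} [Group G] [Finite G] {F : Type v} [Field F] [Finite F] {t : G}
variable (S : Setting G F t)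
include S

theorem two_ne : (2 : F) ≠ 0 := fun h => by
  haveI := Fintype.ofFinite F
  haveI : CharP F 2 := (CharP.charP_iff_prime_eq_zero Nat.prime_two).2 h
  have h2 : ringChar F = 2 := ringChar.eq F 2
  have := FiniteField.even_card_iff_char_two.1 h2
  have := S.odd
  rw [Nat.card_eq_fintype_card, Nat.odd_iff] at this
  omega

theorem neg_one_ne : (-1 : Fˣ) ≠ 1 := fun h => S.two_ne (by
  have : (-1 : F) = 1 := by simpa using congrArg Units.val h
  linear_combination (-1 : F) * this)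

theorem commute_image (M : GL (Fin 2) F) : Commute (S.ι M) t := (S.range_iff _).1 ⟨M, rfl⟩

theorem exists_preimage {g : G} (h : Commute g t) : ∃ M, S.ι M = g := (S.range_iff g).2 h

theorem exists_scalar {M : GL (Fin 2) F} (h : M ∈ Subgroup.center (GL (Fin 2) F)) :
    ∃ a : Fˣ, M = tor a a := by
  obtain ⟨c, d, rfl⟩ := commute_tor S.neg_one_ne (Subgroup.mem_center_iff.1 h (tor (-1) 1)).symm
  have h2 := Subgroup.mem_center_iff.1 h swap
  have h3 : swap * tor c d * swap⁻¹ = tor c d := by rw [h2, mul_inv_cancel_right]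
  rw [swap_conj_tor] at h3
  exact ⟨c, by rw [(tor_injective h3).2]⟩

theorem ker_scalar {M : GL (Fin 2) F} (h : S.ι M = 1) :
    ∃ a : Fˣ, M = tor a a ∧ Odd (orderOf a) := by
  obtain ⟨a, rfl⟩ := S.exists_scalar (S.ker_center h)
  refine ⟨a, rfl, Odd.of_dvd_nat S.ker_odd ((dvd_of_eq ?_).trans
    (orderOf_dvd_natCard (⟨tor a a, h⟩ : S.ι.ker)))⟩
  rw [← Subgroup.orderOf_coe]
  have : (fun x : Fˣ => (tor x x : GL (Fin 2) F)) a = tor a a := rfl
  exact (orderOf_injective (torHom.comp ((MonoidHom.id Fˣ).prod (MonoidHom.id Fˣ)))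
    (fun x y e => (tor_injective (a := x) (b := x) (c := y) (d := y) e).1) a).symm

theorem ker_det {M : GL (Fin 2) F} (h : S.ι M = 1) (hd : GeneralLinearGroup.det M = 1) :
    M = 1 := by
  obtain ⟨a, rfl, ha⟩ := S.ker_scalar h
  rw [det_tor, ← pow_two] at hd
  have : a = 1 := orderOf_eq_one_iff.1 (Nat.eq_one_of_dvd_coprimes
    (Nat.coprime_two_left.2 ha) (orderOf_dvd_of_pow_eq_one hd) dvd_rfl)
  rw [this]
  exact map_one (torHom (F := F))

/-- Commuting in `G` lifts to `GL₂`. -/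
theorem commute_lift {M N : GL (Fin 2) F} (h : Commute (S.ι M) (S.ι N)) : Commute M N := by
  have h1 : S.ι (M * N * (N * M)⁻¹) = 1 := by
    rw [map_mul, map_inv, map_mul, map_mul, h.eq, mul_inv_cancel]
  have h2 := S.ker_det h1 (by
    rw [map_mul, map_inv, map_mul, map_mul, mul_comm (GeneralLinearGroup.det N), mul_inv_cancel])
  exact mul_inv_eq_one.1 h2

theorem ι_injective_det {M N : GL (Fin 2) F} (h : S.ι M = S.ι N)
    (hd : GeneralLinearGroup.det M = GeneralLinearGroup.det N) : M = N :=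
  mul_inv_eq_one.1 (S.ker_det (by rw [map_mul, map_inv, h, mul_inv_cancel])
    (by rw [map_mul, map_inv, hd, mul_inv_cancel]))

theorem mul_self : t * t = 1 := by rw [← pow_two, ← S.invol, pow_orderOf_eq_one]

theorem ne_one : t ≠ 1 := fun h => by have := S.invol; rw [h, orderOf_one] at this; omega

/-- A preimage of an element of order two squares into the kernel; one of them is an involution. -/
theorem exists_lift_invol {g : G} (hg : g * g = 1) (h : Commute g t) :
    ∃ M, S.ι M = g ∧ M * M = 1 := by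
  obtain ⟨M, hM⟩ := S.exists_preimage h
  obtain ⟨j, hj⟩ := S.ker_odd
  have h2 : M * M ∈ S.ι.ker := by rw [MonoidHom.mem_ker, map_mul, hM, hg]
  have h3 : (M * M) ^ Nat.card S.ι.ker = 1 := by
    have := pow_card_eq_one' (G := ↥S.ι.ker) (x := ⟨M * M, h2⟩)
    exact congrArg Subtype.val this
  refine ⟨M ^ Nat.card S.ι.ker, ?_, ?_⟩
  · rw [map_pow, hM, hj, pow_succ, pow_mul, pow_two, hg, one_pow, one_mul]
  · rw [← (Commute.refl M).mul_pow, h3]

/-- The central involution. -/
theorem ι_neg : S.ι (tor (-1) (-1)) = t := by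
  obtain ⟨M, hM, hM2⟩ := S.exists_lift_invol S.mul_self (Commute.refl t)
  have hc : M ∈ Subgroup.center (GL (Fin 2) F) := Subgroup.mem_center_iff.2 fun N =>
    (S.commute_lift (hM.symm ▸ S.commute_image N)).eq
  obtain ⟨a, rfl⟩ := S.exists_scalar hc
  rw [tor_mul] at hM2
  have ha := (tor_injective (hM2.trans (map_one (torHom (F := F))).symm)).1
  rcases mul_self_eq_one_iff.1 (show (a : F) * a = 1 by simpa using congrArg Units.val ha) with e | e
  · exfalso
    have : a = 1 := Units.ext (by simpa using e)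
    subst this
    exact S.ne_one (hM.symm.trans ((congrArg S.ι (map_one (torHom (F := F)))).trans (map_one _)))
  · have : a = -1 := Units.ext (by simpa using e)
    subst this
    exact hM

/-- The second involution of the diagonal four group. -/
def u : G := S.ι (tor (-1) 1)

theorem u_mul_self : S.u * S.u = 1 := by
  rw [u, ← map_mul, tor_mul, neg_one_mul, neg_neg, one_mul]
  exact (congrArg S.ι (map_one (torHom (F := F)))).trans (map_one _)

theorem commute_u_t : Commute S.u t := S.commute_image _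

theorem tu_eq : t * S.u = S.ι (tor 1 (-1)) := by
  show t * S.ι (tor (-1) 1) = _
  refine (congrArg (· * S.ι (tor (-1) 1)) S.ι_neg).symm.trans ?_
  rw [← map_mul, tor_mul, neg_one_mul, neg_neg, mul_one]

theorem swap_conj_u : S.ι swap * S.u * (S.ι swap)⁻¹ = t * S.u := by
  rw [S.tu_eq, u, ← map_inv, ← map_mul, ← map_mul, swap_conj_tor]

theorem swap_conj_tu : S.ι swap * (t * S.u) * (S.ι swap)⁻¹ = S.u := by
  rw [S.tu_eq, u, ← map_inv, ← map_mul, ← map_mul, swap_conj_tor]

theorem u_ne_one : S.u ≠ 1 := fun h => by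
  have h1 : Commute (S.ι (tor (-1) 1)) (S.ι (xp 1)) := by
    rw [show S.ι (tor (-1) 1) = 1 from h]; exact Commute.one_left _
  have h2 := (S.commute_lift h1).eq
  have h3 : tor (-1 : Fˣ) 1 * xp 1 * (tor (-1) 1)⁻¹ = xp 1 := mul_inv_eq_iff_eq_mul.2 h2
  rw [tor_conj_xp] at h3
  have := xp_injective h3
  simp at this
  exact S.two_ne (by linear_combination (-1 : F) * this)

theorem u_ne_t : S.u ≠ t := fun h => by
  have h1 : S.u * S.u = t * S.u := congrArg (· * S.u) h
  rw [S.u_mul_self] at h1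
  have h2 := congrArg (fun z => S.ι swap * z * (S.ι swap)⁻¹) h1
  simp only [mul_one, mul_inv_cancel, S.swap_conj_tu] at h2
  exact S.u_ne_one h2.symm

theorem orderOf_u : orderOf S.u = 2 := orderOf_eq_prime (by rw [pow_two, S.u_mul_self]) S.u_ne_one

/-- The torus. -/
def D : Subgroup G := (S.ι.comp torHom).range

theorem mem_D {g : G} : g ∈ S.D ↔ ∃ a b : Fˣ, S.ι (tor a b) = g :=
  ⟨fun ⟨p, hp⟩ => ⟨p.1, p.2, hp⟩, fun ⟨a, b, h⟩ => ⟨(a, b), h⟩⟩

/-- The torus is `C(t) ∩ C(u)`. -/
theorem mem_D_iff {g : G} : g ∈ S.D ↔ Commute g t ∧ Commute g S.u := by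
  rw [S.mem_D]
  constructor
  · rintro ⟨a, b, rfl⟩
    refine ⟨S.commute_image _, ?_⟩
    show S.ι (tor a b) * S.ι (tor (-1) 1) = S.ι (tor (-1) 1) * S.ι (tor a b)
    rw [← map_mul, ← map_mul, tor_mul, tor_mul, mul_comm a, mul_comm b]
  · rintro ⟨h1, h2⟩
    obtain ⟨M, rfl⟩ := S.exists_preimage h1
    obtain ⟨c, d, rfl⟩ := commute_tor S.neg_one_ne (S.commute_lift (N := tor (-1) 1) h2).eq
    exact ⟨c, d, rfl⟩

/-- An involution of `C(t)` is `t` or conjugate to `u` in `C(t)`. -/
theorem invol_cases {s : G} (hs : s * s = 1) (hs1 : s ≠ 1) (h : Commute s t) :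
    s = t ∨ ∃ c, Commute c t ∧ c * S.u * c⁻¹ = s := by
  classical
  obtain ⟨M, rfl, hM⟩ := S.exists_lift_invol hs h
  have hM' : ∀ v : Fin 2 → F, M • M • v = v := fun v => by rw [← mul_smul, hM, one_smul]
  have hsub : ∀ v w : Fin 2 → F, M • (v - w) = M • v - M • w := fun v w => smul_sub M v w
  have hadd : ∀ v w : Fin 2 → F, M • (v + w) = M • v + M • w := fun v w => smul_add M v w
  by_cases hp : ∀ v : Fin 2 → F, M • v = v
  · exfalso
    refine hs1 ?_
    rw [show M = 1 from H27.GLTwo.smul_ext (by rw [hp, one_smul]) (by rw [hp, one_smul]), map_one]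
  by_cases hm : ∀ v : Fin 2 → F, M • v = -v
  · left
    refine Eq.trans ?_ S.ι_neg
    refine congrArg S.ι (H27.GLTwo.smul_ext ?_ ?_) <;> rw [hm] <;> funext i <;> fin_cases i <;>
      simp [H27.GLTwo.smul_e0, H27.GLTwo.smul_e1, H27.GLTwo.e0, H27.GLTwo.e1]
  simp only [not_forall] at hp hm
  obtain ⟨v, hv⟩ := hp
  obtain ⟨w, hw⟩ := hm
  set a := v - M • v with ha
  set b := w + M • w with hb
  have hMa : M • a = -a := by rw [ha, hsub, hM', neg_sub]
  have hMb : M • b = b := by rw [hb, hadd, hM', add_comm]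
  have ha0 : a ≠ 0 := fun e => hv (sub_eq_zero.1 (ha ▸ e)).symm
  have hb0 : b ≠ 0 := fun e => hw (eq_neg_of_add_eq_zero_right (hb ▸ e))
  have hwedge : H27.GLTwo.wedge a b ≠ 0 := fun e => by
    obtain ⟨c, hc⟩ := H27.GLTwo.exists_smul_eq_of_wedge ha0 e
    have h1 : M • b = -b := by
      rw [← hc, H27.GLTwo.gl_smul_eq, Matrix.mulVec_smul, ← H27.GLTwo.gl_smul_eq, hMa, smul_neg]
    rw [hMb] at h1
    refine hb0 (funext fun i => ?_)
    have h2 : b i = -b i := congrFun h1 i
    have h3 : (2 : F) * b i = 0 := by linear_combination h2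
    exact (mul_eq_zero.1 h3).resolve_left S.two_ne
  obtain ⟨k, hk0, hk1⟩ := H27.GLTwo.exists_gl hwedge
  have hkm : M * k = k * tor (-1) 1 := by
    refine H27.GLTwo.smul_ext ?_ ?_
    · rw [mul_smul, hk0, hMa, mul_smul,
        show tor (-1 : Fˣ) 1 • (H27.GLTwo.e0 : Fin 2 → F) = -H27.GLTwo.e0 by
          funext i; fin_cases i <;> simp [H27.GLTwo.smul_e0, H27.GLTwo.e0], smul_neg, hk0]
    · rw [mul_smul, hk1, hMb, mul_smul,
        show tor (-1 : Fˣ) 1 • (H27.GLTwo.e1 : Fin 2 → F) = H27.GLTwo.e1 by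
          funext i; fin_cases i <;> simp [H27.GLTwo.smul_e1, H27.GLTwo.e1], hk1]
  refine Or.inr ⟨S.ι k, S.commute_image k, ?_⟩
  rw [u, ← map_mul, ← hkm, map_mul, mul_inv_cancel_right]

theorem oddCore_eq_bot : Cfsg.oddCore G = ⊥ := by
  haveI := S.simple
  haveI : (Cfsg.oddCore G).Normal := inferInstanceAs (Cfsg.pPrimeCore 2 G).Normal
  refine (IsSimpleGroup.eq_bot_or_eq_top_of_normal _ inferInstance).resolve_right fun h => ?_
  have ho : Odd (Nat.card (Cfsg.oddCore G)) := Cores.odd_card_oddCore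
  rw [h, Subgroup.card_top] at ho
  have := orderOf_dvd_natCard t
  rw [S.invol] at this
  exact Nat.not_even_iff_odd.2 ho (even_iff_two_dvd.2 this)

/-- `t` is not central. -/
theorem exists_noncommute : ∃ g : G, ¬ Commute g t := by
  by_contra hc
  push Not at hc
  have hmem : t ∈ Subgroup.center G := Subgroup.mem_center_iff.2 fun g => (hc g).eq
  haveI := S.simple
  rcases IsSimpleGroup.eq_bot_or_eq_top_of_normal (Subgroup.center G) inferInstance with h | h
  · exact S.ne_one (by rwa [h, Subgroup.mem_bot] at hmem)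
  · have h1 : Commute (S.ι (xp 1)) (S.ι (tor (-1) 1)) :=
      (Subgroup.mem_center_iff.1 (h ▸ Subgroup.mem_top (S.ι (tor (-1 : Fˣ) 1))) _)
    have h3 : tor (-1 : Fˣ) 1 * xp 1 * (tor (-1) 1)⁻¹ = xp 1 :=
      mul_inv_eq_iff_eq_mul.2 (S.commute_lift h1).eq.symm
    rw [tor_conj_xp] at h3
    have := xp_injective h3
    simp at this
    exact S.two_ne (by linear_combination (-1 : F) * this)

/-- Some element exchanges `t` and `u`. -/
theorem exists_swap : ∃ g : G, g * t * g⁻¹ = S.u ∧ g * S.u * g⁻¹ = t := by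
  classical
  obtain ⟨g₀, hg₀⟩ : ∃ g : G, g * t * g⁻¹ = S.u := by
    by_contra hno
    push Not at hno
    obtain ⟨g, hg⟩ := S.exists_noncommute
    refine hg ?_
    have hiso : Cfsg.IsIsolated t := fun g hcm => by
      rcases S.invol_cases (s := g * t * g⁻¹) (by rw [show g * t * g⁻¹ * (g * t * g⁻¹) = g * (t * t) * g⁻¹ by group, S.mul_self, mul_one, mul_inv_cancel])
        (fun e => S.ne_one (conj_eq_one_iff.1 e)) hcm.symm with e | ⟨c, -, hce⟩
      · exact e
      · refine absurd ?_ (hno (c⁻¹ * g))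
        rw [show c⁻¹ * g * t * (c⁻¹ * g)⁻¹ = c⁻¹ * (g * t * g⁻¹) * c by group, ← hce]; group
    haveI : Fact (Nat.Prime 2) := ⟨Nat.prime_two⟩
    obtain ⟨P, hP⟩ := (IsPGroup.of_card (n := 1) (by
      rw [Nat.card_zpowers, S.invol, pow_one]) : IsPGroup 2 (Subgroup.zpowers t)).exists_le_sylow
    have h1 := Cores.glaubermanZStar P S.invol (hP (Subgroup.mem_zpowers t))
      (fun k hk => H61.eq_of_conj_mem hiso P.isPGroup' (hP (Subgroup.mem_zpowers t)) hk) g
    rw [S.oddCore_eq_bot, Subgroup.mem_bot] at h1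
    show g * t = t * g
    calc g * t = (t * g * t⁻¹ * g⁻¹)⁻¹ * (t * g) := by group
      _ = t * g := by rw [h1, inv_one, one_mul]
  set a := g₀⁻¹ * t * g₀ with ha
  have hta : Commute a t := by
    have := (S.commute_u_t.symm).map (MulAut.conj g₀⁻¹)
    simp only [MulAut.conj_apply, inv_inv] at this
    rw [show g₀⁻¹ * S.u * g₀ = t by rw [← hg₀]; group] at this
    exact this
  rcases S.invol_cases (s := a) (by rw [ha, show g₀⁻¹ * t * g₀ * (g₀⁻¹ * t * g₀) = g₀⁻¹ * (t * t) * g₀ by group, S.mul_self, mul_one, inv_mul_cancel])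
    (fun e => S.ne_one (by
      have := congrArg (fun z => g₀ * z * g₀⁻¹) e
      simpa [ha, mul_assoc] using this)) hta with e | ⟨c, hct, hce⟩
  · exfalso
    refine S.u_ne_t ?_
    calc S.u = g₀ * t * g₀⁻¹ := hg₀.symm
      _ = g₀ * a * g₀⁻¹ := by rw [e]
      _ = t := by rw [ha]; group
  · refine ⟨g₀ * c, ?_, ?_⟩
    · rw [show g₀ * c * t * (g₀ * c)⁻¹ = g₀ * (c * t * c⁻¹) * g₀⁻¹ by group, hct.eq,
        mul_inv_cancel_right, hg₀]
    · rw [show g₀ * c * S.u * (g₀ * c)⁻¹ = g₀ * (c * S.u * c⁻¹) * g₀⁻¹ by group, hce, ha]; group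

/-- An element exchanging `t` and `u`. -/
noncomputable def g : G := S.exists_swap.choose

theorem g_t : S.g * t * S.g⁻¹ = S.u := S.exists_swap.choose_spec.1

theorem g_u : S.g * S.u * S.g⁻¹ = t := S.exists_swap.choose_spec.2

theorem g_tu : S.g * (t * S.u) * S.g⁻¹ = t * S.u := by
  rw [show S.g * (t * S.u) * S.g⁻¹ = S.g * t * S.g⁻¹ * (S.g * S.u * S.g⁻¹) by group, S.g_t, S.g_u,
    S.commute_u_t.eq]

theorem g_mul_g : Commute (S.g * S.g) t ∧ Commute (S.g * S.g) S.u := by
  refine ⟨mul_inv_eq_iff_eq_mul.1 ?_, mul_inv_eq_iff_eq_mul.1 ?_⟩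
  · rw [show S.g * S.g * t * (S.g * S.g)⁻¹ = S.g * (S.g * t * S.g⁻¹) * S.g⁻¹ by group, S.g_t, S.g_u]
  · rw [show S.g * S.g * S.u * (S.g * S.g)⁻¹ = S.g * (S.g * S.u * S.g⁻¹) * S.g⁻¹ by group, S.g_u,
      S.g_t]

theorem g_conj_D {d : G} : S.g * d * S.g⁻¹ ∈ S.D ↔ d ∈ S.D := by
  have hc : ∀ a b : G, Commute (S.g * a * S.g⁻¹) (S.g * b * S.g⁻¹) ↔ Commute a b := fun a b => by
    refine ⟨fun h => ?_, fun h => h.map (MulAut.conj S.g)⟩
    have := h.map (MulAut.conj S.g⁻¹)
    simpa [mul_assoc] using this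
  rw [S.mem_D_iff, S.mem_D_iff, ← hc d t, ← hc d S.u, S.g_t, S.g_u, and_comm]

/-- The upper root group of `t`. -/
def X : Subgroup G := (S.ι.comp xpHom).range

/-- The lower root group of `t`. -/
def X' : Subgroup G := (S.ι.comp xmHom).range

theorem mem_X {g : G} : g ∈ S.X ↔ ∃ a : F, S.ι (xp a) = g :=
  ⟨fun ⟨p, hp⟩ => ⟨p.toAdd, hp⟩, fun ⟨a, h⟩ => ⟨Multiplicative.ofAdd a, h⟩⟩

theorem mem_X' {g : G} : g ∈ S.X' ↔ ∃ a : F, S.ι (xm a) = g :=
  ⟨fun ⟨p, hp⟩ => ⟨p.toAdd, hp⟩, fun ⟨a, h⟩ => ⟨Multiplicative.ofAdd a, h⟩⟩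

theorem swap_conj_X {x : G} : S.ι swap * x * (S.ι swap)⁻¹ ∈ S.X' ↔ x ∈ S.X := by
  rw [S.mem_X, S.mem_X']
  constructor
  · rintro ⟨a, ha⟩
    refine ⟨a, ?_⟩
    rw [← swap_conj_xp, map_mul, map_mul, map_inv] at ha
    exact mul_left_cancel (mul_right_cancel ha)
  · rintro ⟨a, rfl⟩
    exact ⟨a, by rw [← swap_conj_xp, map_mul, map_mul, map_inv]⟩

theorem ι_xp_injective : Function.Injective fun a : F => S.ι (xp a) := fun a b h =>
  xp_injective (S.ι_injective_det h (by
    refine Units.ext ?_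
    simp [Matrix.det_fin_two]))

theorem card_X : Nat.card S.X = Nat.card F :=
  (Nat.card_congr (Equiv.setCongr (s := (S.X : Set G)) (t := Set.range fun a : F => S.ι (xp a))
    (Set.ext fun _ => S.mem_X))).trans
    (Nat.card_congr (Equiv.ofInjective (fun a : F => S.ι (xp a)) S.ι_xp_injective)).symm

end Setting

/-- The setting from the hypotheses of S0484. -/
theorem exists_setting {G : Type u} [Group G] [Finite G] [IsSimpleGroup G] {F : Type v} [Field F]
    [Fintype F] (hF : Odd (Fintype.card F)) (Z : Subgroup (GL (Fin 2) F)) [Z.Normal]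
    (hZc : Z ≤ Subgroup.center (GL (Fin 2) F)) (hZo : Odd (Nat.card Z)) {t : G}
    (ht : orderOf t = 2)
    (hC : Nonempty (Subgroup.centralizer ({t} : Set G) ≃* (GL (Fin 2) F ⧸ Z))) :
    ∃ S : Setting G F t, S.ι.ker = Z := by
  obtain ⟨e⟩ := hC
  let ι : GL (Fin 2) F →* G := (Subgroup.centralizer ({t} : Set G)).subtype.comp
    (e.symm.toMonoidHom.comp (QuotientGroup.mk' Z))
  have hker : ι.ker = Z := by
    ext M
    simp only [ι, MonoidHom.mem_ker, MonoidHom.comp_apply, MulEquiv.coe_toMonoidHom,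
      Subgroup.coe_subtype, OneMemClass.coe_eq_one, map_eq_one_iff e.symm e.symm.injective]
    exact (QuotientGroup.eq_one_iff M)
  refine ⟨⟨ι, inferInstance, by rwa [Nat.card_eq_fintype_card], ht, fun g => ⟨?_, fun hg => ?_⟩,
    hker ▸ hZc, hker ▸ hZo⟩, hker⟩
  · rintro ⟨M, rfl⟩
    exact (e.symm (QuotientGroup.mk' Z M)).2 t rfl |>.symm
  · obtain ⟨M, hM⟩ := QuotientGroup.mk'_surjective Z
      (e ⟨g, Subgroup.mem_centralizer_singleton_iff.2 hg.eq⟩)
    refine ⟨M, ?_⟩
    show ((e.symm (QuotientGroup.mk' Z M) : Subgroup.centralizer ({t} : Set G)) : G) = g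
    rw [hM, MulEquiv.symm_apply_apply]

end Cfsg.Agent.H35.Semi
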